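/-
The six-dimensional representation of G₂ in characteristic two with explicit root elements.
-/
import Cfsg.Agent.Lib.G2Six.Model
import Cfsg.Agent.Lib.Chev.Bruhat
import Cfsg.Agent.Lib.Chev.AllC

set_option autoImplicit false
set_option linter.unusedSectionVars false
set_option linter.unusedSimpArgs false
set_option linter.style.longLine false
set_option maxHeartbeats 4000000

namespace Cfsg.Agent.G2Spec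

open Cfsg.Lie Cfsg.Agent.Chev
open Cfsg.Agent.G2Six (W Y yu yk bit ykN cd cM6_apply pairG pairSet pairG_injective)
open scoped Matrix

variable {F : Type*} [Field F] [CharP F 2]

/-- The coordinates by decreasing height. -/
def eW : Fin 6 ≃ W where
  toFun := ![.inl 0, .inl 1, .inl 2, .inr 2, .inr 1, .inr 0]
  invFun := Sum.elim ![0, 1, 2] ![5, 4, 3]
  left_inv := by decide
  right_inv := by decide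

/-- The root elements by decreasing height. -/
def Yn (r : ℕ) (t : F) : Matrix (Fin 6) (Fin 6) F :=
  match r with
  | 0 => Matrix.of ![![1, 0, 0, 0, 0, 0], ![0, 1, 0, 0, 0, 0], ![0, 0, 1, 0, 0, 0], ![0, 0, 0, 1, 0, 0], ![t, 0, 0, 0, 1, 0], ![0, t, 0, 0, 0, 1]]
  | 1 => Matrix.of ![![1, 0, 0, 0, 0, 0], ![0, 1, 0, 0, 0, 0], ![0, 0, 1, 0, 0, 0], ![t, 0, 0, 1, 0, 0], ![0, 0, 0, 0, 1, 0], ![0, 0, t, 0, 0, 1]]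
  | 2 => Matrix.of ![![1, 0, 0, 0, 0, 0], ![0, 1, 0, 0, 0, 0], ![0, 0, 1, 0, 0, 0], ![0, t, 0, 1, 0, 0], ![0, 0, t, 0, 1, 0], ![t ^ 2, 0, 0, 0, 0, 1]]
  | 3 => Matrix.of ![![1, 0, 0, 0, 0, 0], ![0, 1, 0, 0, 0, 0], ![t, 0, 1, 0, 0, 0], ![0, 0, 0, 1, 0, 0], ![0, t ^ 2, 0, 0, 1, 0], ![0, 0, 0, t, 0, 1]]
  | 4 => Matrix.of ![![1, 0, 0, 0, 0, 0], ![t, 1, 0, 0, 0, 0], ![0, 0, 1, 0, 0, 0], ![0, 0, t ^ 2, 1, 0, 0], ![0, 0, 0, 0, 1, 0], ![0, 0, 0, 0, t, 1]]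
  | 5 => Matrix.of ![![1, 0, 0, 0, 0, 0], ![0, 1, 0, 0, 0, 0], ![0, t, 1, 0, 0, 0], ![0, 0, 0, 1, 0, 0], ![0, 0, 0, t, 1, 0], ![0, 0, 0, 0, 0, 1]]
  | 6 => Matrix.of ![![1, 0, 0, 0, 0, 0], ![0, 1, t, 0, 0, 0], ![0, 0, 1, 0, 0, 0], ![0, 0, 0, 1, t, 0], ![0, 0, 0, 0, 1, 0], ![0, 0, 0, 0, 0, 1]]
  | 7 => Matrix.of ![![1, t, 0, 0, 0, 0], ![0, 1, 0, 0, 0, 0], ![0, 0, 1, t ^ 2, 0, 0], ![0, 0, 0, 1, 0, 0], ![0, 0, 0, 0, 1, t], ![0, 0, 0, 0, 0, 1]]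
  | 8 => Matrix.of ![![1, 0, t, 0, 0, 0], ![0, 1, 0, 0, t ^ 2, 0], ![0, 0, 1, 0, 0, 0], ![0, 0, 0, 1, 0, t], ![0, 0, 0, 0, 1, 0], ![0, 0, 0, 0, 0, 1]]
  | 9 => Matrix.of ![![1, 0, 0, 0, 0, t ^ 2], ![0, 1, 0, t, 0, 0], ![0, 0, 1, 0, t, 0], ![0, 0, 0, 1, 0, 0], ![0, 0, 0, 0, 1, 0], ![0, 0, 0, 0, 0, 1]]
  | 10 => Matrix.of ![![1, 0, 0, t, 0, 0], ![0, 1, 0, 0, 0, 0], ![0, 0, 1, 0, 0, t], ![0, 0, 0, 1, 0, 0], ![0, 0, 0, 0, 1, 0], ![0, 0, 0, 0, 0, 1]]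
  | 11 => Matrix.of ![![1, 0, 0, 0, t, 0], ![0, 1, 0, 0, 0, t], ![0, 0, 1, 0, 0, 0], ![0, 0, 0, 1, 0, 0], ![0, 0, 0, 0, 1, 0], ![0, 0, 0, 0, 0, 1]]
  | _ => 1

def kTab (r : ℕ) : List ℕ :=
  ([
    [0,0,0,0,0,0,0,0,0,0,0,0,0,0,0,0,0,0,0,0,0,0,0,0,1,0,0,0,0,0,0,1,0,0,0,0],
    [0,0,0,0,0,0,0,0,0,0,0,0,0,0,0,0,0,0,1,0,0,0,0,0,0,0,0,0,0,0,0,0,1,0,0,0],
    [0,0,0,0,0,0,0,0,0,0,0,0,0,0,0,0,0,0,0,1,0,0,0,0,0,0,1,0,0,0,0,0,0,0,0,0],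
    [0,0,0,0,0,0,0,0,0,0,0,0,1,0,0,0,0,0,0,0,0,0,0,0,0,0,0,0,0,0,0,0,0,1,0,0],
    [0,0,0,0,0,0,1,0,0,0,0,0,0,0,0,0,0,0,0,0,0,0,0,0,0,0,0,0,0,0,0,0,0,0,1,0],
    [0,0,0,0,0,0,0,0,0,0,0,0,0,1,0,0,0,0,0,0,0,0,0,0,0,0,0,1,0,0,0,0,0,0,0,0],
    [0,0,0,0,0,0,0,0,1,0,0,0,0,0,0,0,0,0,0,0,0,0,1,0,0,0,0,0,0,0,0,0,0,0,0,0],
    [0,1,0,0,0,0,0,0,0,0,0,0,0,0,0,0,0,0,0,0,0,0,0,0,0,0,0,0,0,1,0,0,0,0,0,0],
    [0,0,1,0,0,0,0,0,0,0,0,0,0,0,0,0,0,0,0,0,0,0,0,1,0,0,0,0,0,0,0,0,0,0,0,0],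
    [0,0,0,0,0,0,0,0,0,1,0,0,0,0,0,0,1,0,0,0,0,0,0,0,0,0,0,0,0,0,0,0,0,0,0,0],
    [0,0,0,1,0,0,0,0,0,0,0,0,0,0,0,0,0,1,0,0,0,0,0,0,0,0,0,0,0,0,0,0,0,0,0,0],
    [0,0,0,0,1,0,0,0,0,0,0,1,0,0,0,0,0,0,0,0,0,0,0,0,0,0,0,0,0,0,0,0,0,0,0,0]] : List (List ℕ)).getD r []

def kTab2 (r : ℕ) : List ℕ :=
  ([
    [0,0,0,0,0,0,0,0,0,0,0,0,0,0,0,0,0,0,0,0,0,0,0,0,0,0,0,0,0,0,0,0,0,0,0,0],
    [0,0,0,0,0,0,0,0,0,0,0,0,0,0,0,0,0,0,0,0,0,0,0,0,0,0,0,0,0,0,0,0,0,0,0,0],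
    [0,0,0,0,0,0,0,0,0,0,0,0,0,0,0,0,0,0,0,0,0,0,0,0,0,0,0,0,0,0,1,0,0,0,0,0],
    [0,0,0,0,0,0,0,0,0,0,0,0,0,0,0,0,0,0,0,0,0,0,0,0,0,1,0,0,0,0,0,0,0,0,0,0],
    [0,0,0,0,0,0,0,0,0,0,0,0,0,0,0,0,0,0,0,0,1,0,0,0,0,0,0,0,0,0,0,0,0,0,0,0],
    [0,0,0,0,0,0,0,0,0,0,0,0,0,0,0,0,0,0,0,0,0,0,0,0,0,0,0,0,0,0,0,0,0,0,0,0],
    [0,0,0,0,0,0,0,0,0,0,0,0,0,0,0,0,0,0,0,0,0,0,0,0,0,0,0,0,0,0,0,0,0,0,0,0],
    [0,0,0,0,0,0,0,0,0,0,0,0,0,0,0,1,0,0,0,0,0,0,0,0,0,0,0,0,0,0,0,0,0,0,0,0],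
    [0,0,0,0,0,0,0,0,0,0,1,0,0,0,0,0,0,0,0,0,0,0,0,0,0,0,0,0,0,0,0,0,0,0,0,0],
    [0,0,0,0,0,1,0,0,0,0,0,0,0,0,0,0,0,0,0,0,0,0,0,0,0,0,0,0,0,0,0,0,0,0,0,0],
    [0,0,0,0,0,0,0,0,0,0,0,0,0,0,0,0,0,0,0,0,0,0,0,0,0,0,0,0,0,0,0,0,0,0,0,0],
    [0,0,0,0,0,0,0,0,0,0,0,0,0,0,0,0,0,0,0,0,0,0,0,0,0,0,0,0,0,0,0,0,0,0,0,0]] : List (List ℕ)).getD r []

theorem eW_table : ∀ i : Fin 6, cd (eW i) = ![0, 1, 2, 5, 4, 3] i := by decide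

theorem Y_entries : ∀ r < 12, ∀ i j : Fin 6,
    [yk 0 r (cd (eW i)) (cd (eW j)), yk 1 r (cd (eW i)) (cd (eW j)), yk 2 r (cd (eW i)) (cd (eW j))] =
      [if i = j then 1 else 0, (kTab r).getD (6 * i.val + j.val) 0, (kTab2 r).getD (6 * i.val + j.val) 0] := by
  decide +kernel

theorem Yn_eq {r : ℕ} (hr : r < 12) (t : F) (i j : Fin 6) : Y r t (eW i) (eW j) = Yn r t i j := by
  have h := Y_entries r hr i j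
  simp only [List.cons.injEq, and_true] at h
  obtain ⟨h0, h1, h2⟩ := h
  simp only [Y, Finset.sum_range_succ, Finset.sum_range_zero, zero_add, Matrix.add_apply, Matrix.smul_apply,
    cM6_apply, smul_eq_mul, pow_zero, one_mul, pow_one, h0, h1, h2]
  interval_cases r <;> fin_cases i <;> fin_cases j <;> simp [Yn, kTab, kTab2]

/-- The representation. -/
theorem exists_rep (F : Type*) [Field F] [CharP F 2] : ∃ π : ↥(chevG2.group F) →* GL (Fin 6) F, Function.Injective π ∧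
    ∀ r < 12, ∀ (t : F) (g : ↥(chevG2.group F)), (g : GL chevG2.Idx F) = G2.ok.xG r t →
      ((π g : GL (Fin 6) F) : Matrix (Fin 6) (Fin 6) F) = Yn r t := by
  let ψ : ↥(pairG F) →* GL chevG2.Idx F := (MonoidHom.snd _ _).comp (pairG F).subtype
  have hinj : Function.Injective ψ := (injective_iff_map_eq_one ψ).2 fun p hp =>
    Subtype.ext (Prod.ext ((pairG_injective p.2).2 hp) hp)
  have hrange : chevG2.group F ≤ ψ.range := by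
    rw [ChevalleyDatum.group, Subgroup.closure_le]
    rintro g ⟨r, t, hg⟩
    refine ⟨⟨_, Subgroup.subset_closure ⟨r.val, r.isLt, t, rfl⟩⟩, ?_⟩
    show G2.ok.xG r.val t = g
    apply Units.ext
    rw [G2.ok.coe_xG, hg, ChevalleyDatum.x, dif_pos r.isLt]
  let e := MonoidHom.ofInjective hinj
  let π₀ : ↥(chevG2.group F) →* GL W F :=
    (((MonoidHom.fst _ _).comp (pairG F).subtype).comp e.symm.toMonoidHom).comp (Subgroup.inclusion hrange)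
  have hπ₀ : ∀ g, ∃ p ∈ pairG F, p.2 = g.1 ∧ p.1 = π₀ g := fun g => by
    refine ⟨_, (e.symm (Subgroup.inclusion hrange g)).2, ?_, rfl⟩
    show ((e (e.symm (Subgroup.inclusion hrange g))) : GL chevG2.Idx F) = g.1
    rw [MulEquiv.apply_symm_apply]
    rfl
  have hπinj : Function.Injective π₀ := (injective_iff_map_eq_one π₀).2 fun g hg => by
    obtain ⟨p, hp, h2, h1⟩ := hπ₀ g
    exact Subtype.ext (h2.symm.trans ((pairG_injective hp).1 (h1.trans hg)))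
  let E : GL W F ≃* GL (Fin 6) F := Units.mapEquiv (Matrix.reindexAlgEquiv F F eW.symm).toMulEquiv
  refine ⟨E.toMonoidHom.comp π₀, E.injective.comp hπinj, fun r hr t g hg => ?_⟩
  obtain ⟨p, hp, h2, h1⟩ := hπ₀ g
  have hq : (yu hr t, G2.ok.xG r t) ∈ pairG F := Subgroup.subset_closure ⟨r, hr, t, rfl⟩
  have h3 : π₀ g = yu hr t := by
    rw [← h1]
    have := (pairG_injective (mul_mem hp (inv_mem hq))).2 (by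
      show p.2 * (G2.ok.xG r t)⁻¹ = 1
      rw [h2, hg, mul_inv_cancel])
    exact mul_inv_eq_one.1 this
  ext i j
  show ((π₀ g : GL W F) : Matrix W W F) (eW i) (eW j) = _
  rw [h3]
  exact Yn_eq hr t i j

end Cfsg.Agent.G2Spec
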