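/-
Every element of G₂ in characteristic two is triangular with weights `x, y, z, z⁻¹, y⁻¹, x⁻¹` up to conjugation.
-/
import Cfsg.Agent.Lib.G2Spec.Model

set_option autoImplicit false
set_option linter.unusedSectionVars false
set_option linter.unusedSimpArgs false
set_option maxHeartbeats 4000000

namespace Cfsg.Agent.G2Spec

open Cfsg.Lie Cfsg.Agent.Chev
open scoped Matrix

variable {K : Type*} [Field K] [CharP K 2]

/-- A representation with the standard root matrices. -/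
structure Rep6 (K : Type*) [Field K] where
  π : ↥(chevG2.group K) →* GL (Fin 6) K
  root : ∀ r < 12, ∀ (t : K) (g : ↥(chevG2.group K)), (g : GL chevG2.Idx K) = G2.ok.xG r t →
    ((π g : GL (Fin 6) K) : Matrix (Fin 6) (Fin 6) K) = Yn r t

variable (R : Rep6 K)

/-- The matrix of an element. -/
noncomputable def Rep6.M : ↥(chevG2.group K) →* Matrix (Fin 6) (Fin 6) K := (Units.coeHom _).comp R.π

/-- A root element in the group. -/
def xe (r : ℕ) (t : K) : ↥(chevG2.group K) := ⟨G2.ok.xG r t, G2.ok.mem_group_of_xG r t⟩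

theorem M_xe {r : ℕ} (hr : r < 12) (t : K) : R.M (xe r t) = Yn r t := R.root r hr t _ rfl

/-- The weight shape. -/
def Good (A : Matrix (Fin 6) (Fin 6) K) : Prop :=
  (∀ i j, j < i → A i j = 0) ∧ A 0 0 = A 1 1 * A 2 2 ∧ A 5 5 * A 0 0 = 1 ∧ A 4 4 * A 1 1 = 1 ∧ A 3 3 * A 2 2 = 1

theorem tri_mul_diag {A B : Matrix (Fin 6) (Fin 6) K} (hA : ∀ i j, j < i → A i j = 0) (hB : ∀ i j, j < i → B i j = 0)
    (i : Fin 6) : (A * B) i i = A i i * B i i := by
  rw [Matrix.mul_apply, Finset.sum_eq_single i (fun k _ hk => ?_) (by simp)]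
  rcases lt_or_gt_of_ne hk with h | h
  · rw [hA i k h, zero_mul]
  · rw [hB k i h, mul_zero]

theorem Good.mul {A B : Matrix (Fin 6) (Fin 6) K} (hA : Good A) (hB : Good B) : Good (A * B) := by
  obtain ⟨a0, a1, a2, a3, a4⟩ := hA
  obtain ⟨b0, b1, b2, b3, b4⟩ := hB
  refine ⟨fun i j h => ?_, ?_, ?_, ?_, ?_⟩
  · rw [Matrix.mul_apply]
    refine Finset.sum_eq_zero fun k _ => ?_
    rcases lt_or_ge k i with h' | h'
    · rw [a0 i k h', zero_mul]
    · rw [b0 k j (lt_of_lt_of_le h h'), mul_zero]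
  all_goals simp only [tri_mul_diag a0 b0]
  · rw [a1, b1]; ring
  · linear_combination (B 5 5 * B 0 0) * a2 + b2
  · linear_combination (B 4 4 * B 1 1) * a3 + b3
  · linear_combination (B 3 3 * B 2 2) * a4 + b4

theorem good_one : Good (1 : Matrix (Fin 6) (Fin 6) K) :=
  ⟨fun i j h => Matrix.one_apply_ne (Ne.symm h.ne), by simp, by simp, by simp, by simp⟩

theorem good_root {r : ℕ} (hr : r ∈ [6, 7, 8, 9, 10, 11]) (t : K) : Good (Yn r t) := by
  simp only [List.mem_cons, List.not_mem_nil, or_false] at hr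
  refine ⟨fun i j h => ?_, ?_, ?_, ?_, ?_⟩
  · rcases hr with rfl | rfl | rfl | rfl | rfl | rfl <;> revert h <;> fin_cases i <;> fin_cases j <;>
      simp [Yn] <;> decide
  all_goals rcases hr with rfl | rfl | rfl | rfl | rfl | rfl <;> simp [Yn]

/-- The permutation matrix of a list of images. -/
def Pm (s : List ℕ) : Matrix (Fin 6) (Fin 6) K := Matrix.of fun i j => if i.val = s.getD j.val 6 then 1 else 0

theorem nt_seven (t : K) (ht : t ≠ 0) : Yn 7 t * Yn 4 t⁻¹ * Yn 7 t =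
    !![0, t, 0, 0, 0, 0; t⁻¹, 0, 0, 0, 0, 0; 0, 0, 0, t ^ 2, 0, 0; 0, 0, t⁻¹ ^ 2, 0, 0, 0; 0, 0, 0, 0, 0, t;
      0, 0, 0, 0, t⁻¹, 0] := by
  ext i j
  fin_cases i <;> fin_cases j <;> simp [Yn, Matrix.mul_apply, Fin.sum_univ_six, ht, CharTwo.add_self_eq_zero]

theorem nt_six (t : K) (ht : t ≠ 0) : Yn 6 t * Yn 5 t⁻¹ * Yn 6 t =
    !![1, 0, 0, 0, 0, 0; 0, 0, t, 0, 0, 0; 0, t⁻¹, 0, 0, 0, 0; 0, 0, 0, 0, t, 0; 0, 0, 0, t⁻¹, 0, 0;
      0, 0, 0, 0, 0, 1] := by
  ext i j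
  fin_cases i <;> fin_cases j <;> simp [Yn, Matrix.mul_apply, Fin.sum_univ_six, ht, CharTwo.add_self_eq_zero]

theorem tables : G2.pk.ng 7 = 4 ∧ G2.pk.ng 6 = 5 ∧ G2.pk.sim 0 = 7 ∧ G2.pk.sim 1 = 6 ∧ G2.pk.rank = 2 ∧
    (posL G2.pk).all (fun r => [6, 7, 8, 9, 10, 11].contains r) = true := by decide +kernel

theorem M_nt {r r' : ℕ} (hr : r < 12) (hr' : r' < 12) (e : G2.pk.ng r = r') (t : K)
    (g : ↥(chevG2.group K)) (hg : (g : GL chevG2.Idx K) = G2.ok.nt r t) :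
    R.M g = Yn r t * Yn r' t⁻¹ * Yn r t := by
  have : g = xe r t * xe r' t⁻¹ * xe r t := Subtype.ext (by
    rw [hg, Ok.nt, e, CharTwo.neg_eq]; rfl)
  rw [this, map_mul, map_mul, M_xe R hr, M_xe R hr']

theorem nt_mem (r : ℕ) (t : K) : G2.ok.nt r t ∈ chevG2.group K :=
  mul_mem (mul_mem (G2.ok.mem_group_of_xG _ _) (G2.ok.mem_group_of_xG _ _)) (G2.ok.mem_group_of_xG _ _)

theorem M_simple (i : Fin 2) : ∃ g : ↥(chevG2.group K), (g : GL chevG2.Idx K) = G2.ok.nG i.val ∧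
    R.M g = Pm ([[1, 0, 3, 2, 5, 4], [0, 2, 1, 4, 3, 5]].getD i.val []) := by
  refine ⟨⟨_, nt_mem (G2.pk.sim i.val) 1⟩, rfl, ?_⟩
  fin_cases i
  · rw [M_nt R (r := 7) (r' := 4) (by omega) (by omega) tables.1 1 _ (by rw [← tables.2.2.1]),
      nt_seven 1 one_ne_zero]
    ext a b
    fin_cases a <;> fin_cases b <;> simp [Pm]
  · rw [M_nt R (r := 6) (r' := 5) (by omega) (by omega) tables.2.1 1 _ (by rw [← tables.2.2.2.1]),
      nt_six 1 one_ne_zero]
    ext a b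
    fin_cases a <;> fin_cases b <;> simp [Pm]

theorem good_diag {g : ↥(chevG2.group K)} (hg : (g : GL chevG2.Idx K) ∈ chevG2.diagonalSubgroup K) :
    Good (R.M g) := by
  obtain ⟨c, hc⟩ := G2.ok.mem_diagonal_iff.1 hg
  have key : ∀ (i : Fin G2.pk.rank) (u : Kˣ), ∃ x : ↥(chevG2.group K),
      (x : GL chevG2.Idx K) = G2.ok.hHom (Pi.mulSingle i u) ∧ Good (R.M x) := by
    intro i u
    refine ⟨⟨_, nt_mem (G2.pk.sim i.val) (u : K)⟩ * ⟨_, nt_mem (G2.pk.sim i.val) (1 : K)⟩, ?_, ?_⟩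
    · rw [G2.ok.hHom_single, Ok.ht, CharTwo.neg_eq]; rfl
    rw [map_mul]
    have hu : (u : K) ≠ 0 := u.ne_zero
    have hi : i.val = 0 ∨ i.val = 1 := by have := i.isLt.trans_eq tables.2.2.2.2.1; omega
    rcases hi with h | h
    · rw [M_nt R (r := 7) (r' := 4) (by omega) (by omega) tables.1 (u : K) _ (by rw [← tables.2.2.1, ← h]),
        M_nt R (r := 7) (r' := 4) (by omega) (by omega) tables.1 1 _ (by rw [← tables.2.2.1, ← h]),
        nt_seven _ hu, nt_seven _ one_ne_zero]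
      refine ⟨fun a b hab => ?_, ?_, ?_, ?_, ?_⟩
      · revert hab; fin_cases a <;> fin_cases b <;> simp [Matrix.mul_apply, Fin.sum_univ_six] <;> decide
      all_goals simp [Matrix.mul_apply, Fin.sum_univ_six, pow_two, hu, mul_assoc]
    · rw [M_nt R (r := 6) (r' := 5) (by omega) (by omega) tables.2.1 (u : K) _ (by rw [← tables.2.2.2.1, ← h]),
        M_nt R (r := 6) (r' := 5) (by omega) (by omega) tables.2.1 1 _ (by rw [← tables.2.2.2.1, ← h]),
        nt_six _ hu, nt_six _ one_ne_zero]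
      refine ⟨fun a b hab => ?_, ?_, ?_, ?_, ?_⟩
      · revert hab; fin_cases a <;> fin_cases b <;> simp [Matrix.mul_apply, Fin.sum_univ_six] <;> decide
      all_goals simp [Matrix.mul_apply, Fin.sum_univ_six, hu]
  set j0 : Fin G2.pk.rank := ⟨0, by rw [tables.2.2.2.2.1]; omega⟩ with hj0
  set j1 : Fin G2.pk.rank := ⟨1, by rw [tables.2.2.2.2.1]; omega⟩ with hj1
  have hdec : c = Pi.mulSingle j0 (c j0) * Pi.mulSingle j1 (c j1) := by
    funext j
    have hj : j.val = 0 ∨ j.val = 1 := by have := j.isLt.trans_eq tables.2.2.2.2.1; omega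
    rcases hj with h | h
    · obtain rfl : j = j0 := Fin.ext h
      rw [Pi.mul_apply, Pi.mulSingle_eq_same, Pi.mulSingle_eq_of_ne (by simp [hj0, hj1, Fin.ext_iff]), mul_one]
    · obtain rfl : j = j1 := Fin.ext h
      rw [Pi.mul_apply, Pi.mulSingle_eq_same, Pi.mulSingle_eq_of_ne (by simp [hj0, hj1, Fin.ext_iff]), one_mul]
  obtain ⟨x, hx, gx⟩ := key j0 (c j0)
  obtain ⟨y, hy, gy⟩ := key j1 (c j1)
  have : g = x * y := Subtype.ext (by
    rw [← hc, hdec, map_mul, ← hx, ← hy]; rfl)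
  rw [this, map_mul]
  exact gx.mul gy

theorem good_pos {g : ↥(chevG2.group K)} (hg : (g : GL chevG2.Idx K) ∈ chevG2.posUnipotent K) :
    Good (R.M g) := by
  obtain ⟨t, ht⟩ := G2.ok.pos_normal_form ckComm_G2 hg
  have key : ∀ L : List ℕ, (∀ r ∈ L, r ∈ [6, 7, 8, 9, 10, 11]) →
      ∃ x : ↥(chevG2.group K), (x : GL chevG2.Idx K) = (L.map fun r => G2.ok.xG r (t r)).prod ∧ Good (R.M x) := by
    intro L hL
    induction L with
    | nil => exact ⟨1, rfl, by rw [map_one]; exact good_one⟩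
    | cons r L ih =>
      obtain ⟨x, hx, gx⟩ := ih fun y hy => hL y (List.mem_cons_of_mem _ hy)
      have hr := hL r List.mem_cons_self
      have hr12 : r < 12 := by
        simp only [List.mem_cons, List.not_mem_nil, or_false] at hr; omega
      refine ⟨xe r (t r) * x, by rw [List.map_cons, List.prod_cons, ← hx]; rfl, ?_⟩
      rw [map_mul, M_xe R hr12]
      exact (good_root hr _).mul gx
  obtain ⟨x, hx, gx⟩ := key (posL G2.pk) fun r hr => by
    have := List.all_eq_true.1 tables.2.2.2.2.2 r hr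
    simpa using this
  rwa [show g = x from Subtype.ext (ht.trans hx.symm)]

theorem good_borel {g : ↥(chevG2.group K)} (hg : (g : GL chevG2.Idx K) ∈ chevG2.borelSubgroup K) :
    Good (R.M g) := by
  obtain ⟨u, hu, d, hd, e⟩ := G2.ok.mem_borel hg
  have : g = ⟨u, G2.ok.borel_le_group (Subgroup.mem_sup_left hu)⟩ *
      ⟨d, G2.ok.diagonal_le_group hd⟩ := Subtype.ext e
  rw [this, map_mul]
  exact (good_pos R hu).mul (good_diag R hd)

/-- The twelve permutations. -/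
def perms : List (List ℕ) :=
  [[0, 1, 2, 3, 4, 5], [1, 0, 3, 2, 5, 4], [0, 2, 1, 4, 3, 5], [1, 3, 0, 5, 2, 4], [2, 0, 4, 1, 5, 3],
    [3, 1, 5, 0, 4, 2], [2, 4, 0, 5, 1, 3], [3, 5, 1, 4, 0, 2], [4, 2, 5, 0, 3, 1], [5, 3, 4, 1, 2, 0],
    [4, 5, 2, 3, 0, 1], [5, 4, 3, 2, 1, 0]]

theorem perms_closed : (perms.all fun s => ([[1, 0, 3, 2, 5, 4], [0, 2, 1, 4, 3, 5]] : List (List ℕ)).all fun a =>
    perms.contains (s.map fun k => a.getD k 6)) = true := by decide +kernel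

theorem perms_spec : (perms.all fun s => (List.range 6).all fun j => decide (s.getD j 6 < 6)) = true ∧
    (perms.all fun s => (s.getD 0 6 != 0) || (s == [0, 1, 2, 3, 4, 5]) || (s == [0, 2, 1, 4, 3, 5])) = true ∧
    (perms.all fun s => s.length == 6) = true := by decide +kernel

theorem M_word (l : List ℕ) (hl : WordOk G2.pk l) : ∃ (g : ↥(chevG2.group K)) (s : List ℕ),
    (g : GL chevG2.Idx K) = G2.ok.nW l ∧ s ∈ perms ∧ R.M g = Pm s := by
  induction l with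
  | nil =>
    refine ⟨1, [0, 1, 2, 3, 4, 5], rfl, by decide, ?_⟩
    rw [map_one]
    ext a b
    fin_cases a <;> fin_cases b <;> simp [Pm]
  | cons i l ih =>
    obtain ⟨g, s, hg, hs, hM⟩ := ih fun x hx => hl x (List.mem_cons_of_mem _ hx)
    have hi : i < 2 := tables.2.2.2.2.1 ▸ hl i List.mem_cons_self
    obtain ⟨n, hn, hMn⟩ := M_simple R ⟨i, hi⟩
    set a := ([[1, 0, 3, 2, 5, 4], [0, 2, 1, 4, 3, 5]] : List (List ℕ)).getD i []
    refine ⟨n * g, s.map fun k => a.getD k 6, by rw [Ok.nW_cons, ← hg, ← hn]; rfl, ?_, ?_⟩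
    · have := List.all_eq_true.1 (List.all_eq_true.1 perms_closed s hs) a (by
        rcases (show i = 0 ∨ i = 1 by omega) with e | e <;> simp [a, e])
      simpa using this
    · rw [map_mul, hMn, hM]
      have hlen : s.length = 6 := by simpa using List.all_eq_true.1 perms_spec.2.2 s hs
      have hlt := List.all_eq_true.1 perms_spec.1 s hs
      simp only [List.all_eq_true, List.mem_range, decide_eq_true_eq] at hlt
      ext x y
      have hy := hlt y.val y.isLt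
      have hkey : (s.map fun k => a.getD k 6).getD y.val 6 = a.getD (s.getD y.val 6) 6 := by
        rw [List.getD_eq_getElem (l := s.map _) _ (by simp [hlen, y.isLt]), List.getElem_map,
          List.getD_eq_getElem (l := s) _ (by simp [hlen, y.isLt])]
      rw [Matrix.mul_apply, Finset.sum_eq_single (⟨s.getD y.val 6, hy⟩ : Fin 6)]
      · simp only [Pm, Matrix.of_apply]
        rw [hkey, if_pos trivial, mul_one]
      · intro k _ hk
        simp only [Pm, Matrix.of_apply]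
        rw [if_neg (c := k.val = s.getD y.val 6) (fun e => hk (Fin.ext e)), mul_zero]
      · simp

/-- The Bruhat form in the representation. -/
theorem bruhat_M (g : ↥(chevG2.group K)) : ∃ b s u, Good b ∧ Good u ∧ s ∈ perms ∧ R.M g = b * Pm s * u := by
  obtain ⟨b, hb, l, hl, u, hu, e⟩ := G2.ok.bruhat_exists ckComm_G2 g.2
  obtain ⟨n, s, hn, hs, hMn⟩ := M_word R l hl
  have hu' := G2.ok.negS_le_pos l hu
  refine ⟨_, s, _, good_borel R (g := ⟨b, G2.ok.borel_le_group hb⟩) hb,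
    good_pos R (g := ⟨u, G2.ok.borel_le_group (Subgroup.mem_sup_left hu')⟩) hu', hs, ?_⟩
  rw [← hMn, ← map_mul, ← map_mul]
  congr 1
  exact Subtype.ext (by simp [e, hn])

theorem Good.diag_ne {A : Matrix (Fin 6) (Fin 6) K} (h : Good A) (i : Fin 6) : A i i ≠ 0 := by
  obtain ⟨-, h0, h5, h4, h3⟩ := h
  fin_cases i
  · exact right_ne_zero_of_mul_eq_one h5
  · exact right_ne_zero_of_mul_eq_one h4
  · exact right_ne_zero_of_mul_eq_one h3
  · exact left_ne_zero_of_mul_eq_one h3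
  · exact left_ne_zero_of_mul_eq_one h4
  · exact left_ne_zero_of_mul_eq_one h5

theorem prod_col {b u : Matrix (Fin 6) (Fin 6) K} (hu : Good u) {s : List ℕ} (i : Fin 6)
    (h0 : s.getD 0 6 < 6) : (b * (Pm s : Matrix (Fin 6) (Fin 6) K) * u) i 0 = b i ⟨s.getD 0 6, h0⟩ * u 0 0 := by
  rw [Matrix.mul_apply, Finset.sum_eq_single 0 (fun k _ hk => by
    rw [hu.1 k 0 (Fin.pos_iff_ne_zero.2 hk), mul_zero]) (by simp), Matrix.mul_apply,
    Finset.sum_eq_single (⟨s.getD 0 6, h0⟩ : Fin 6) (fun k _ hk => by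
      rw [Pm, Matrix.of_apply, Fin.val_zero, if_neg (fun e => hk (Fin.ext e)), mul_zero]) (by simp)]
  simp [Pm]

/-- An element fixing the first line is block triangular. -/
theorem stab_first (g : ↥(chevG2.group K)) (h : ∀ i, i ≠ 0 → R.M g i 0 = 0) :
    ∃ b s u, Good b ∧ Good u ∧ R.M g = b * Pm s * u ∧ (s = [0, 1, 2, 3, 4, 5] ∨ s = [0, 2, 1, 4, 3, 5]) := by
  obtain ⟨b, s, u, hb, hu, hs, e⟩ := bruhat_M R g
  refine ⟨b, s, u, hb, hu, e, ?_⟩
  have hlt := List.all_eq_true.1 (List.all_eq_true.1 perms_spec.1 s hs) 0 (by simp)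
  rw [decide_eq_true_eq] at hlt
  have h0 : s.getD 0 6 = 0 := by
    by_contra hne
    have := h ⟨_, hlt⟩ (fun e => hne (congrArg Fin.val e))
    rw [e, prod_col hu _ hlt] at this
    exact mul_ne_zero (hb.diag_ne _) (hu.diag_ne _) this
  have := List.all_eq_true.1 perms_spec.2.1 s hs
  simp only [h0, bne_self_eq_false, Bool.false_or, Bool.or_eq_true, beq_iff_eq] at this
  exact this

theorem Pm_id : (Pm [0, 1, 2, 3, 4, 5] : Matrix (Fin 6) (Fin 6) K) = 1 := by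
  ext a b
  fin_cases a <;> fin_cases b <;> simp [Pm]

theorem stab_pair (g : ↥(chevG2.group K)) (h : ∀ i, i ≠ 0 → R.M g i 0 = 0)
    (h' : R.M g 2 1 = 0) : Good (R.M g) := by
  obtain ⟨b, s, u, hb, hu, e, hs | hs⟩ := stab_first R g h
  · rw [e, hs, Pm_id, mul_one]
    exact hb.mul hu
  exfalso
  rw [e, hs] at h'
  have e1 : (b * (Pm [0, 2, 1, 4, 3, 5] : Matrix (Fin 6) (Fin 6) K) * u) 2 1 = b 2 2 * u 1 1 := by
    simp [Matrix.mul_apply, Fin.sum_univ_six, Pm, hu.1 2 1 (by decide), hu.1 3 1 (by decide), hu.1 4 1 (by decide),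
      hu.1 5 1 (by decide), hb.1 2 0 (by decide), hb.1 2 1 (by decide)]
  exact mul_ne_zero (hb.diag_ne 2) (hu.diag_ne 1) (e1.symm.trans h')

/-- A vector can be moved onto the first line. -/
def Reach (v : Fin 6 → K) : Prop := ∃ (g : ↥(chevG2.group K)) (c : K), R.M g *ᵥ v = Pi.single 0 c

theorem Reach.step {v : Fin 6 → K} (n : ↥(chevG2.group K)) (h : Reach R (R.M n *ᵥ v)) : Reach R v := by
  obtain ⟨g, c, e⟩ := h
  exact ⟨g * n, c, by rw [map_mul, ← Matrix.mulVec_mulVec, e]⟩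

theorem reach_last [IsAlgClosed K] {v : Fin 6 → K} (h5 : v 5 ≠ 0) : Reach R v := by
  refine Reach.step R (xe 7 (v 4 / v 5)) ?_
  rw [M_xe R (by omega)]
  set v1 := Yn 7 (v 4 / v 5) *ᵥ v with hv1
  have a5 : v1 5 ≠ 0 := by simpa [hv1, Matrix.mulVec, dotProduct, Fin.sum_univ_six, Yn] using h5
  have a4 : v1 4 = 0 := by
    simp [hv1, Matrix.mulVec, dotProduct, Fin.sum_univ_six, Yn, h5, CharTwo.add_self_eq_zero]
  clear_value v1
  clear hv1 h5
  refine Reach.step R (xe 8 (v1 3 / v1 5)) ?_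
  rw [M_xe R (by omega)]
  set v2 := Yn 8 (v1 3 / v1 5) *ᵥ v1 with hv2
  have b5 : v2 5 ≠ 0 := by simpa [hv2, Matrix.mulVec, dotProduct, Fin.sum_univ_six, Yn] using a5
  have b4 : v2 4 = 0 := by simp [hv2, Matrix.mulVec, dotProduct, Fin.sum_univ_six, Yn, a4]
  have b3 : v2 3 = 0 := by
    simp [hv2, Matrix.mulVec, dotProduct, Fin.sum_univ_six, Yn, a5, CharTwo.add_self_eq_zero]
  clear_value v2
  clear hv2
  refine Reach.step R (xe 10 (v2 2 / v2 5)) ?_
  rw [M_xe R (by omega)]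
  set v3 := Yn 10 (v2 2 / v2 5) *ᵥ v2 with hv3
  have c5 : v3 5 ≠ 0 := by simpa [hv3, Matrix.mulVec, dotProduct, Fin.sum_univ_six, Yn] using b5
  have c4 : v3 4 = 0 := by simp [hv3, Matrix.mulVec, dotProduct, Fin.sum_univ_six, Yn, b4]
  have c3 : v3 3 = 0 := by simp [hv3, Matrix.mulVec, dotProduct, Fin.sum_univ_six, Yn, b3]
  have c2 : v3 2 = 0 := by
    simp [hv3, Matrix.mulVec, dotProduct, Fin.sum_univ_six, Yn, b5, CharTwo.add_self_eq_zero]
  clear_value v3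
  clear hv3
  refine Reach.step R (xe 11 (v3 1 / v3 5)) ?_
  rw [M_xe R (by omega)]
  set v4 := Yn 11 (v3 1 / v3 5) *ᵥ v3 with hv4
  have d5 : v4 5 ≠ 0 := by simpa [hv4, Matrix.mulVec, dotProduct, Fin.sum_univ_six, Yn] using c5
  have d4 : v4 4 = 0 := by simp [hv4, Matrix.mulVec, dotProduct, Fin.sum_univ_six, Yn, c4]
  have d3 : v4 3 = 0 := by simp [hv4, Matrix.mulVec, dotProduct, Fin.sum_univ_six, Yn, c3]
  have d2 : v4 2 = 0 := by simp [hv4, Matrix.mulVec, dotProduct, Fin.sum_univ_six, Yn, c2]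
  have d1 : v4 1 = 0 := by
    simp [hv4, Matrix.mulVec, dotProduct, Fin.sum_univ_six, Yn, c5, CharTwo.add_self_eq_zero]
  clear_value v4
  clear hv4
  obtain ⟨t, ht⟩ := IsAlgClosed.exists_pow_nat_eq (v4 0 / v4 5) (show 0 < 2 by omega)
  refine Reach.step R (xe 9 t) ?_
  rw [M_xe R (by omega)]
  have e5 : Yn 9 t *ᵥ v4 = Pi.single 5 (v4 5) := by
    funext i
    fin_cases i <;> simp [Matrix.mulVec, dotProduct, Fin.sum_univ_six, Yn, d4, d3, d2, d1, ht, d5,
      CharTwo.add_self_eq_zero]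
  rw [e5]
  obtain ⟨na, -, hna⟩ := M_simple R 0
  obtain ⟨nb, -, hnb⟩ := M_simple R 1
  refine ⟨na * nb * na * nb * na, v4 5, ?_⟩
  simp only [map_mul, ← Matrix.mulVec_mulVec, hna, hnb]
  funext i
  fin_cases i <;> simp [Pm, Matrix.mulVec, dotProduct, Fin.sum_univ_six]

theorem reach [IsAlgClosed K] {v : Fin 6 → K} (hv : v ≠ 0) : Reach R v := by
  obtain ⟨na, -, hna⟩ := M_simple R 0
  obtain ⟨nb, -, hnb⟩ := M_simple R 1
  have va : ∀ w : Fin 6 → K, R.M na *ᵥ w = ![w 1, w 0, w 3, w 2, w 5, w 4] := fun w => by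
    funext i
    fin_cases i <;> simp [hna, Pm, Matrix.mulVec, dotProduct, Fin.sum_univ_six]
  have vb : ∀ w : Fin 6 → K, R.M nb *ᵥ w = ![w 0, w 2, w 1, w 4, w 3, w 5] := fun w => by
    funext i
    fin_cases i <;> simp [hnb, Pm, Matrix.mulVec, dotProduct, Fin.sum_univ_six]
  by_cases h5 : v 5 ≠ 0
  · exact reach_last R h5
  by_cases h4 : v 4 ≠ 0
  · exact Reach.step R na (reach_last R (by simpa [hna, Pm, Matrix.mulVec, dotProduct, Fin.sum_univ_six] using h4))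
  by_cases h3 : v 3 ≠ 0
  · exact Reach.step R (na * nb) (reach_last R (by
      rw [map_mul]; simp only [← Matrix.mulVec_mulVec, va, vb]; simpa using h3))
  by_cases h2 : v 2 ≠ 0
  · exact Reach.step R (na * nb * na) (reach_last R (by
      rw [map_mul, map_mul]; simp only [← Matrix.mulVec_mulVec, va, vb]; simpa using h2))
  by_cases h1 : v 1 ≠ 0
  · exact Reach.step R (na * nb * na * nb) (reach_last R (by
      rw [map_mul, map_mul, map_mul]; simp only [← Matrix.mulVec_mulVec, va, vb]; simpa using h1))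
  push Not at h5 h4 h3 h2 h1
  refine ⟨1, v 0, ?_⟩
  rw [map_one, Matrix.one_mulVec]
  funext i
  fin_cases i <;> simp [h1, h2, h3, h4, h5]

theorem conj_eigen {C D A : Matrix (Fin 6) (Fin 6) K} {v : Fin 6 → K} {μ : K} (hDC : D * C = 1)
    (h : A *ᵥ v = μ • v) : (C * A * D) *ᵥ (C *ᵥ v) = μ • (C *ᵥ v) := by
  rw [Matrix.mulVec_mulVec, mul_assoc, mul_assoc, hDC, mul_one, ← Matrix.mulVec_mulVec, h, Matrix.mulVec_smul]

theorem Yn_six (s : K) : Yn 6 s = 1 + Matrix.single 1 2 s + Matrix.single 3 4 s := by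
  ext i j
  fin_cases i <;> fin_cases j <;> simp [Yn]

/-- The entries that matter after a shear and a reflection. -/
theorem shear_entries (A : Matrix (Fin 6) (Fin 6) K) (h0 : ∀ i, i ≠ 0 → A i 0 = 0) (s : K) :
    (∀ i : Fin 6, i ≠ 0 → ((Pm [0, 2, 1, 4, 3, 5] : Matrix (Fin 6) (Fin 6) K) * (Yn 6 s * A * Yn 6 s) * (Pm [0, 2, 1, 4, 3, 5] : Matrix (Fin 6) (Fin 6) K)) i 0 = 0) ∧
      ((Pm [0, 2, 1, 4, 3, 5] : Matrix (Fin 6) (Fin 6) K) * (Yn 6 s * A * Yn 6 s) * (Pm [0, 2, 1, 4, 3, 5] : Matrix (Fin 6) (Fin 6) K)) 2 1 =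
        A 2 1 * s ^ 2 + (A 2 2 + A 1 1) * s + A 1 2 := by
  set B := Yn 6 s * A * Yn 6 s with hB
  have hP : ∀ i j : Fin 6, ((Pm [0, 2, 1, 4, 3, 5] : Matrix (Fin 6) (Fin 6) K) * B * (Pm [0, 2, 1, 4, 3, 5] : Matrix (Fin 6) (Fin 6) K)) i j =
      B (![0, 2, 1, 4, 3, 5] i) (![0, 2, 1, 4, 3, 5] j) := by
    intro i j
    fin_cases i <;> fin_cases j <;> simp [Pm, Matrix.mul_apply, Fin.sum_univ_six]
  have hY : ∀ i j : Fin 6, Yn 6 s i j = (1 : Matrix (Fin 6) (Fin 6) K) i j + (if i = 1 ∧ j = 2 then s else 0) +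
      (if i = 3 ∧ j = 4 then s else 0) := by
    intro i j
    rw [Yn_six]
    simp only [Matrix.add_apply, Matrix.single, Matrix.of_apply, @eq_comm _ (1 : Fin 6), @eq_comm _ (2 : Fin 6),
      @eq_comm _ (3 : Fin 6), @eq_comm _ (4 : Fin 6)]
  constructor
  · intro i hi
    rw [hP, hB, Matrix.mul_apply]
    simp only [Matrix.mul_apply, hY, Fin.sum_univ_six]
    revert hi
    fin_cases i <;> simp [Matrix.one_apply, h0]
  · rw [hP, hB, Matrix.mul_apply]
    simp only [Matrix.mul_apply, hY, Fin.sum_univ_six]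
    simp [Matrix.one_apply]
    ring

/-- Triangular with the weight shape, up to conjugation. -/
theorem exists_good [IsAlgClosed K] (g : ↥(chevG2.group K)) :
    ∃ C : ↥(chevG2.group K), Good (R.M (C * g * C⁻¹)) := by
  obtain ⟨μ, hμ⟩ := Module.End.exists_eigenvalue (Matrix.mulVecLin (R.M g))
  obtain ⟨v, hv⟩ := hμ.exists_hasEigenvector
  obtain ⟨C, c, hC⟩ := reach R hv.2
  have hCC : R.M C⁻¹ * R.M C = 1 := by rw [← map_mul, inv_mul_cancel, map_one]
  have hev := conj_eigen (C := R.M C) hCC (show R.M g *ᵥ v = μ • v from hv.apply_eq_smul)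
  rw [← map_mul, ← map_mul, hC] at hev
  have hc : c ≠ 0 := fun h => hv.2 (by
    rw [← Matrix.one_mulVec v, ← hCC, ← Matrix.mulVec_mulVec, hC, h, Pi.single_zero, Matrix.mulVec_zero])
  set g' := C * g * C⁻¹ with hg'
  have h0 : ∀ i, i ≠ 0 → R.M g' i 0 = 0 := fun i hi => by
    have := congrFun hev i
    rw [Matrix.mulVec_single, Pi.smul_apply, Pi.smul_apply, Pi.single_eq_of_ne hi] at this
    simp [hc] at this
    exact this
  by_cases h21 : R.M g' 2 1 = 0
  · exact ⟨C, stab_pair R g' h0 h21⟩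
  obtain ⟨s, hs⟩ : ∃ s : K, R.M g' 2 1 * s ^ 2 + (R.M g' 2 2 + R.M g' 1 1) * s + R.M g' 1 2 = 0 := by
    obtain ⟨s, hs⟩ := IsAlgClosed.exists_root (Polynomial.C (R.M g' 2 1) * Polynomial.X ^ 2 +
      Polynomial.C (R.M g' 2 2 + R.M g' 1 1) * Polynomial.X + Polynomial.C (R.M g' 1 2)) (by
        rw [Polynomial.degree_quadratic h21]; decide)
    exact ⟨s, by simpa [Polynomial.IsRoot] using hs⟩
  obtain ⟨nb, -, hnb⟩ := M_simple R 1
  have hX : R.M (xe 6 s) * R.M (xe 6 s) = 1 := by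
    rw [M_xe R (by omega)]
    ext i j
    fin_cases i <;> fin_cases j <;> simp [Yn, Matrix.mul_apply, Fin.sum_univ_six, CharTwo.add_self_eq_zero]
  have hXi : R.M (xe 6 s)⁻¹ = R.M (xe 6 s) := by
    calc R.M (xe 6 s)⁻¹ = R.M (xe 6 s)⁻¹ * (R.M (xe 6 s) * R.M (xe 6 s)) := by rw [hX, mul_one]
      _ = R.M (xe 6 s) := by rw [← mul_assoc, ← map_mul, inv_mul_cancel, map_one, one_mul]
  have hN : R.M nb * R.M nb = 1 := by
    rw [hnb]
    ext i j
    fin_cases i <;> fin_cases j <;> simp [Pm, Matrix.mul_apply, Fin.sum_univ_six]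
  have hNi : R.M nb⁻¹ = R.M nb := by
    calc R.M nb⁻¹ = R.M nb⁻¹ * (R.M nb * R.M nb) := by rw [hN, mul_one]
      _ = R.M nb := by rw [← mul_assoc, ← map_mul, inv_mul_cancel, map_one, one_mul]
  refine ⟨nb * xe 6 s * C, ?_⟩
  rw [show nb * xe 6 s * C * g * (nb * xe 6 s * C)⁻¹ = nb * xe 6 s * g' * (xe 6 s)⁻¹ * nb⁻¹ by rw [hg']; group]
  have e : R.M (nb * xe 6 s * g' * (xe 6 s)⁻¹ * nb⁻¹) = Pm [0, 2, 1, 4, 3, 5] * (Yn 6 s * R.M g' * Yn 6 s) *
      Pm [0, 2, 1, 4, 3, 5] := by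
    rw [map_mul, map_mul, map_mul, map_mul, hXi, hNi, hnb, M_xe R (by omega)]
    simp only [Fin.val_one, List.getD_cons_succ, List.getD_cons_zero, mul_assoc]
  obtain ⟨k1, k2⟩ := shear_entries (R.M g') h0 s
  refine stab_pair R _ (fun i hi => by rw [e]; exact k1 i hi) ?_
  rw [e, k2]
  linear_combination hs

end Cfsg.Agent.G2Spec
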