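/-
Element orders of G₂(q), q even, from the six eigenvalues.
-/
import Cfsg.Agent.Lib.G2Spec.Shape

set_option autoImplicit false
set_option linter.unusedSectionVars false
set_option linter.unusedSimpArgs false
set_option maxHeartbeats 1000000

namespace Cfsg.Agent.G2Spec


open Polynomial
open scoped Matrix

variable {K : Type*} [Field K]

/-- The six eigenvalues. -/
noncomputable def six (x y z : K) : Multiset K := {x, x⁻¹, y, y⁻¹, z, z⁻¹}

/-- Their polynomial. -/
noncomputable def chi (x y z : K) : K[X] := ((six x y z).map fun a => X - C a).prod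

theorem chi_eq (x y z : K) : chi x y z =
    (X - C x) * (X - C x⁻¹) * ((X - C y) * (X - C y⁻¹)) * ((X - C z) * (X - C z⁻¹)) := by
  simp [chi, six, mul_assoc]

theorem chi_perm (x y z : K) : chi x y z = chi y x z ∧ chi x y z = chi z y x := by
  simp only [chi_eq]
  constructor <;> ring

theorem chi_charpoly {A : Matrix (Fin 6) (Fin 6) K} (h : Good A) :
    ∃ x y z : K, x * y * z = 1 ∧ A.charpoly = chi x y z := by
  obtain ⟨h0, h1, h5, h4, h3⟩ := h
  refine ⟨A 1 1, A 2 2, A 5 5, by rw [← h1, mul_comm]; exact h5, ?_⟩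
  rw [Matrix.charpoly_of_isUpperTriangular _ (fun i j hij => h0 i j hij), Fin.prod_univ_six, chi_eq,
    ← eq_inv_of_mul_eq_one_left h4, ← eq_inv_of_mul_eq_one_left h3,
    ← eq_inv_of_mul_eq_one_right h5]
  ring

theorem roots_chi (x y z : K) : (chi x y z).roots = six x y z := roots_multiset_prod_X_sub_C _

theorem six_frob (φ : K →+* K) {x y z : K} (h : (chi x y z).map φ = chi x y z) :
    six (φ x) (φ y) (φ z) = six x y z := by
  have e : (chi x y z).map φ = chi (φ x) (φ y) (φ z) := by simp [chi_eq, Polynomial.map_mul, map_inv₀]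
  rw [h] at e
  rw [← roots_chi, ← roots_chi, e]

/-- A product of linear factors of distinct roots of unity. -/
theorem prod_dvd {n : ℕ} (hn : 0 < n) (s : Multiset K) (hs : s.Nodup) (h : ∀ a ∈ s, a ^ n = 1) :
    (s.map fun a => X - C a).prod ∣ X ^ n - 1 := by
  rw [Multiset.prod_X_sub_C_dvd_iff_le_roots (by simpa using Polynomial.X_pow_sub_C_ne_zero hn (1 : K)),
    Multiset.le_iff_subset hs]
  intro a ha
  rw [mem_roots (by simpa using Polynomial.X_pow_sub_C_ne_zero hn (1 : K))]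
  simp [h a ha]

theorem pow_of_pow {x : K} {n m : ℕ} (h : x ^ n = 1) (hd : n ∣ m) : x ^ m = 1 := by
  obtain ⟨c, rfl⟩ := hd
  rw [pow_mul, h, one_pow]

/-- The bound on the orders. -/
def Bound (q N : ℕ) : Prop :=
  N = 8 ∨ N = 12 ∨ N = 2 * (q + 1) ∨ N = 2 * (q - 1) ∨ N = q * q - 1 ∨ N = q * q + q + 1 ∨ N = q * q - q + 1

theorem sq_inv_of_pm {q : ℕ} (hq : 1 ≤ q) {x : K} (hx : x ≠ 0) (h : x ^ q = x ∨ x ^ q = x⁻¹) :
    x ^ (q - 1) = 1 ∨ x ^ (q + 1) = 1 := by
  rcases h with h | h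
  · left
    have : x ^ (q - 1) * x = 1 * x := by rw [← pow_succ, Nat.sub_add_cancel hq, h, one_mul]
    exact mul_right_cancel₀ hx this
  · right
    rw [pow_succ, h, inv_mul_cancel₀ hx]

variable [CharP K 2]

theorem sub_one_sq (n : ℕ) (k : ℕ) : (X ^ n - 1 : K[X]) ^ 2 ^ k = X ^ (n * 2 ^ k) - 1 := by
  haveI : Fact (Nat.Prime 2) := ⟨Nat.prime_two⟩
  rw [sub_pow_char_pow, one_pow, ← pow_mul]

theorem ne_inv_self {y : K} (hy : y ≠ 1) (hy0 : y ≠ 0) : y ≠ y⁻¹ := fun e => hy (CharTwo.sq_injective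
  (show y ^ 2 = 1 ^ 2 by rw [one_pow, pow_two]; nth_rw 2 [e]; exact mul_inv_cancel₀ hy0))

theorem bound_one {q : ℕ} (hq : 4 ≤ q) (φ : K →+* K) (hφ : ∀ t, φ t = t ^ q) {y z : K} (hyz : y * z = 1)
    (h : (chi 1 y z).map φ = chi 1 y z) : ∃ N, Bound q N ∧ chi 1 y z ∣ X ^ N - 1 := by
  have hy0 : y ≠ 0 := left_ne_zero_of_mul_eq_one hyz
  obtain rfl : z = y⁻¹ := eq_inv_of_mul_eq_one_right hyz
  have hchi : chi 1 y y⁻¹ = ((X - C (1 : K)) * (X - C y) * (X - C y⁻¹)) ^ 2 := by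
    rw [chi_eq, inv_one, inv_inv]; ring
  by_cases h1 : y = 1
  · refine ⟨8, Or.inl rfl, ?_⟩
    rw [hchi, h1, inv_one, map_one, show (8 : ℕ) = 1 * 2 ^ 3 by norm_num, ← sub_one_sq]
    exact ⟨(X - 1) ^ 2, by ring⟩
  have hmem : φ y ∈ six 1 y y⁻¹ := by
    rw [← six_frob φ h]; simp [six]
  have hne : φ y ≠ 1 := fun e => h1 (φ.injective (e.trans (map_one φ).symm))
  simp only [six, inv_one, inv_inv, Multiset.insert_eq_cons, Multiset.mem_cons, Multiset.mem_singleton, hφ] at hmem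
  rw [hφ] at hne
  have hpm : y ^ q = y ∨ y ^ q = y⁻¹ := by tauto
  have key : ∀ n, y ^ n = 1 → 0 < n → chi 1 y y⁻¹ ∣ X ^ (2 * n) - 1 := by
    intro n hn hn0
    rw [hchi, Nat.mul_comm, show (2 : ℕ) = 2 ^ 1 by norm_num, ← sub_one_sq]
    refine pow_dvd_pow_of_dvd ?_ _
    have := prod_dvd hn0 ({1, y, y⁻¹} : Multiset K) (by
      simp [ne_inv_self h1 hy0, Ne.symm h1, h1, inv_eq_one, eq_comm (a := (1 : K))])
      (by simp [hn])
    simpa [mul_assoc] using this
  rcases sq_inv_of_pm (by omega) hy0 hpm with e | e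
  · exact ⟨_, Or.inr (Or.inr (Or.inr (Or.inl rfl))), key _ e (by omega)⟩
  · exact ⟨_, Or.inr (Or.inr (Or.inl rfl)), key _ e (by omega)⟩

theorem bound_rep {q : ℕ} (hq : 4 ≤ q) (φ : K →+* K) (hφ : ∀ t, φ t = t ^ q) {x z : K} (hxz : x * x * z = 1)
    (hx : x ≠ 1) (h : (chi x x z).map φ = chi x x z) : ∃ N, Bound q N ∧ chi x x z ∣ X ^ N - 1 := by
  classical
  have hx0 : x ≠ 0 := left_ne_zero_of_mul (left_ne_zero_of_mul_eq_one hxz)
  have hz : z = (x * x)⁻¹ := eq_inv_of_mul_eq_one_right hxz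
  have hxx : x ≠ x⁻¹ := ne_inv_self hx hx0
  by_cases h3 : x ^ 3 = 1
  · refine ⟨12, Or.inr (Or.inl rfl), ?_⟩
    have ez : z = x := by rw [hz]; exact inv_eq_of_mul_eq_one_right (by rw [← h3]; ring)
    rw [ez, show (12 : ℕ) = 3 * 2 ^ 2 by norm_num, ← sub_one_sq, chi_eq,
      show (X - C x) * (X - C x⁻¹) * ((X - C x) * (X - C x⁻¹)) * ((X - C x) * (X - C x⁻¹)) =
        ((X - C x) * (X - C x⁻¹)) ^ 3 by ring]
    refine (pow_dvd_pow_of_dvd ?_ 3).trans (pow_dvd_pow _ (by norm_num))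
    simpa using prod_dvd (n := 3) (by norm_num) ({x, x⁻¹} : Multiset K) (by simpa using hxx)
      (by simp [h3])
  have hz1 : z ≠ x := fun e => h3 (by rw [← hxz, e]; ring)
  have hz2 : z ≠ x⁻¹ := fun e => hx (by
    have : x * x * x⁻¹ = 1 := e ▸ hxz
    rwa [mul_assoc, mul_inv_cancel₀ hx0, mul_one] at this)
  have hzz : z ≠ z⁻¹ := ne_inv_self (fun e => hx (CharTwo.sq_injective
    (show x ^ 2 = 1 ^ 2 by rw [e, mul_one] at hxz; rw [one_pow, pow_two, hxz]))) (right_ne_zero_of_mul_eq_one hxz)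
  have hz3 : z⁻¹ ≠ x := fun e => hz2 (by rw [← e, inv_inv])
  have hz4 : z⁻¹ ≠ x⁻¹ := fun e => hz1 (inv_injective e)
  have hcount : 2 ≤ (six x x z).count (φ x) := by
    rw [← six_frob φ h]
    simp [six, Multiset.count_cons]
    try omega
  have hpm : φ x = x ∨ φ x = x⁻¹ := by
    by_contra hne
    push Not at hne
    simp [six, Multiset.count_cons, Multiset.count_singleton, hne.1, hne.2] at hcount
    split_ifs at hcount with h1 h2
    all_goals first | omega | exact hzz (h1.symm.trans h2) | exact hzz (h2.symm.trans h1)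
  rw [hφ] at hpm
  have key : ∀ n, x ^ n = 1 → 0 < n → chi x x z ∣ X ^ (2 * n) - 1 := by
    intro n hn hn0
    rw [Nat.mul_comm, show (2 : ℕ) = 2 ^ 1 by norm_num, ← sub_one_sq]
    have := prod_dvd hn0 ({x, x⁻¹, z, z⁻¹} : Multiset K) (by
      simp [hxx, hzz, hz1.symm, hz2.symm, hz3.symm, hz4.symm])
      (by simp [hn, hz, inv_pow, mul_pow])
    refine dvd_trans ?_ (pow_dvd_pow_of_dvd this _)
    rw [chi_eq]
    exact ⟨(X - C z) * (X - C z⁻¹), by simp; ring⟩
  rcases sq_inv_of_pm (by omega) hx0 hpm with e | e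
  · exact ⟨_, Or.inr (Or.inr (Or.inr (Or.inl rfl))), key _ e (by omega)⟩
  · exact ⟨_, Or.inr (Or.inr (Or.inl rfl)), key _ e (by omega)⟩

theorem sign_eq {u v w a b c : K} (hu : u ≠ 1) (hv : v ≠ 1) (hw : w ≠ 1) (huvw : u * v * w = 1)
    (habc : a * b * c = 1) (ha : a = u ∨ a = u⁻¹) (hb : b = v ∨ b = v⁻¹) (hc : c = w ∨ c = w⁻¹) :
    (a = u ∧ b = v ∧ c = w) ∨ (a = u⁻¹ ∧ b = v⁻¹ ∧ c = w⁻¹) := by
  have hu0 : u ≠ 0 := left_ne_zero_of_mul (left_ne_zero_of_mul_eq_one huvw)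
  have hv0 : v ≠ 0 := right_ne_zero_of_mul (left_ne_zero_of_mul_eq_one huvw)
  have hw0 : w ≠ 0 := right_ne_zero_of_mul_eq_one huvw
  have one_of : ∀ t : K, t * t = 1 → t = 1 := fun t ht => CharTwo.sq_injective
    (show t ^ 2 = 1 ^ 2 by rw [one_pow, pow_two, ht])
  rcases ha with ha | ha <;> rcases hb with hb | hb <;> rcases hc with hc | hc <;> rw [ha, hb, hc] at habc
  · exact Or.inl ⟨ha, hb, hc⟩
  · exact absurd (one_of w (by field_simp at habc; linear_combination huvw - w * habc)) hw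
  · exact absurd (one_of v (by field_simp at habc; linear_combination huvw - v * habc)) hv
  · exact absurd (one_of u (by field_simp at habc; linear_combination u * habc + huvw)) hu
  · exact absurd (one_of u (by field_simp at habc; linear_combination huvw - u * habc)) hu
  · exact absurd (one_of v (by field_simp at habc; linear_combination v * habc + huvw)) hv
  · exact absurd (one_of w (by field_simp at habc; linear_combination w * habc + huvw)) hw
  · exact Or.inr ⟨ha, hb, hc⟩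

theorem bound_chi {q : ℕ} (hq : 4 ≤ q) (φ : K →+* K) (hφ : ∀ t, φ t = t ^ q) {x y z : K} (hxyz : x * y * z = 1)
    (h : (chi x y z).map φ = chi x y z) : ∃ N, Bound q N ∧ chi x y z ∣ X ^ N - 1 := by
  by_cases hx : x = 1
  · subst hx
    exact bound_one hq φ hφ (by rwa [one_mul] at hxyz) h
  by_cases hy : y = 1
  · subst hy
    rw [(chi_perm x 1 z).1] at h ⊢
    exact bound_one hq φ hφ (by rwa [mul_one] at hxyz) h
  by_cases hz : z = 1
  · subst hz
    rw [(chi_perm x y 1).2] at h ⊢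
    exact bound_one hq φ hφ (by rw [mul_one, mul_comm] at hxyz; exact hxyz) h
  have hx0 : x ≠ 0 := left_ne_zero_of_mul (left_ne_zero_of_mul_eq_one hxyz)
  have hy0 : y ≠ 0 := right_ne_zero_of_mul (left_ne_zero_of_mul_eq_one hxyz)
  have hz0 : z ≠ 0 := right_ne_zero_of_mul_eq_one hxyz
  by_cases exy : x = y
  · subst exy
    exact bound_rep hq φ hφ hxyz hx h
  by_cases exz : x = z
  · subst exz
    have e : chi x y x = chi x x y := by simp only [chi_eq]; ring
    rw [e] at h ⊢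
    exact bound_rep hq φ hφ (by rw [← hxyz]; ring) hx h
  by_cases eyz : y = z
  · subst eyz
    have e : chi x y y = chi y y x := by simp only [chi_eq]; ring
    rw [e] at h ⊢
    exact bound_rep hq φ hφ (by rw [← hxyz]; ring) hy h
  have nxy : x ≠ y⁻¹ := fun e => hz (by rw [e, inv_mul_cancel₀ hy0, one_mul] at hxyz; exact hxyz)
  have nxz : x ≠ z⁻¹ := fun e => hy (by
    rw [e, mul_right_comm, inv_mul_cancel₀ hz0, one_mul] at hxyz; exact hxyz)
  have nyz : y ≠ z⁻¹ := fun e => hx (by rw [e, mul_assoc, inv_mul_cancel₀ hz0, mul_one] at hxyz; exact hxyz)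
  have hnd : (six x y z).Nodup := by
    simp only [six, Multiset.insert_eq_cons, Multiset.nodup_cons, Multiset.mem_cons, Multiset.mem_singleton,
      Multiset.nodup_singleton, and_true, not_or]
    refine ⟨⟨ne_inv_self hx hx0, exy, nxy, exz, nxz⟩, ⟨fun e => nxy (by rw [← e, inv_inv]),
      fun e => exy (inv_injective e), fun e => nxz (by rw [← e, inv_inv]), fun e => exz (inv_injective e)⟩,
      ⟨ne_inv_self hy hy0, eyz, nyz⟩, ⟨fun e => nyz (by rw [← e, inv_inv]), fun e => eyz (inv_injective e)⟩,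
      ne_inv_self hz hz0⟩
  have finish : ∀ N, 0 < N → Bound q N → x ^ N = 1 → y ^ N = 1 →
      ∃ N, Bound q N ∧ chi x y z ∣ X ^ N - 1 := by
    intro N hN hB h1 h2
    refine ⟨N, hB, prod_dvd hN _ hnd ?_⟩
    have h3 : z ^ N = 1 := by
      have := congrArg (fun t : K => t ^ N) hxyz
      simpa [mul_pow, h1, h2] using this
    simp [six, h1, h2, h3]
  have hmem : ∀ t, t = x ∨ t = y ∨ t = z → (φ t = x ∨ φ t = x⁻¹) ∨ (φ t = y ∨ φ t = y⁻¹) ∨ (φ t = z ∨ φ t = z⁻¹) := by
    intro t ht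
    have : φ t ∈ six x y z := by
      rw [← six_frob φ h]
      rcases ht with rfl | rfl | rfl <;> simp [six]
    simp only [six, Multiset.insert_eq_cons, Multiset.mem_cons, Multiset.mem_singleton] at this
    tauto
  have clash : ∀ a b u : K, a ≠ b → a ≠ b⁻¹ → (φ a = u ∨ φ a = u⁻¹) → (φ b = u ∨ φ b = u⁻¹) → False := by
    intro a b u h1 h2 ha hb
    have hab : φ a = φ b ∨ φ a = φ b⁻¹ := by
      rw [map_inv₀]
      rcases ha with ha | ha <;> rcases hb with hb | hb <;> rw [ha, hb] <;> simp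
    exact hab.elim (fun e => h1 (φ.injective e)) (fun e => h2 (φ.injective e))
  have hprod : φ x * φ y * φ z = 1 := by rw [← map_mul, ← map_mul, hxyz, map_one]
  have hq2 : ∀ t, φ (φ t) = t ^ (q * q) := fun t => by rw [hφ, hφ, ← pow_mul]
  have invol : φ (φ x) = x → φ (φ y) = y → ∃ N, Bound q N ∧ chi x y z ∣ X ^ N - 1 := by
    intro h1 h2
    have hqq : 1 ≤ q * q := Nat.one_le_iff_ne_zero.2 (by positivity)
    refine finish (q * q - 1) (by
      have : 4 * 4 ≤ q * q := Nat.mul_le_mul hq hq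
      omega) (Or.inr (Or.inr (Or.inr (Or.inr (Or.inl rfl))))) ?_ ?_
    · refine mul_right_cancel₀ hx0 ?_
      rw [← pow_succ, Nat.sub_add_cancel hqq, one_mul, ← hq2, h1]
    · refine mul_right_cancel₀ hy0 ?_
      rw [← pow_succ, Nat.sub_add_cancel hqq, one_mul, ← hq2, h2]
  have cplus : φ (φ x) * φ x * x = 1 → φ (φ y) * φ y * y = 1 → ∃ N, Bound q N ∧ chi x y z ∣ X ^ N - 1 := by
    intro h1 h2
    refine finish (q * q + q + 1) (by omega) (Or.inr (Or.inr (Or.inr (Or.inr (Or.inr (Or.inl rfl)))))) ?_ ?_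
    · rw [pow_succ, pow_add, ← hq2, ← hφ, h1]
    · rw [pow_succ, pow_add, ← hq2, ← hφ, h2]
  have cminus : φ (φ x) * x = φ x → φ (φ y) * y = φ y → ∃ N, Bound q N ∧ chi x y z ∣ X ^ N - 1 := by
    intro h1 h2
    have hle : q ≤ q * q := Nat.le_mul_self q
    refine finish (q * q - q + 1) (by omega) (Or.inr (Or.inr (Or.inr (Or.inr (Or.inr (Or.inr rfl)))))) ?_ ?_
    · refine mul_right_cancel₀ (pow_ne_zero q hx0) ?_
      rw [← pow_add, one_mul, show q * q - q + 1 + q = q * q + 1 by omega, pow_succ, ← hq2, ← hφ, h1]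
    · refine mul_right_cancel₀ (pow_ne_zero q hy0) ?_
      rw [← pow_add, one_mul, show q * q - q + 1 + q = q * q + 1 by omega, pow_succ, ← hq2, ← hφ, h2]
  have ez : z = x⁻¹ * y⁻¹ := by field_simp; linear_combination hxyz
  rcases hmem x (Or.inl rfl) with hA | hA | hA <;> rcases hmem y (Or.inr (Or.inl rfl)) with hB | hB | hB <;>
    rcases hmem z (Or.inr (Or.inr rfl)) with hC | hC | hC
  all_goals first
    | exact (clash x y _ exy nxy hA hB).elim
    | exact (clash x z _ exz nxz hA hC).elim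
    | exact (clash y z _ eyz nyz hB hC).elim
    | skip
  · rcases sign_eq hx hy hz hxyz hprod hA hB hC with ⟨a, b, c⟩ | ⟨a, b, c⟩ <;>
      apply invol <;> simp [a, b, c, map_inv₀]
  · rcases sign_eq hx hz hy (by rw [← hxyz]; ring) hprod hA hB hC with ⟨a, b, c⟩ | ⟨a, b, c⟩ <;>
      apply invol <;> simp [a, b, c, map_inv₀]
  · rcases sign_eq hy hx hz (by rw [← hxyz]; ring) hprod hA hB hC with ⟨a, b, c⟩ | ⟨a, b, c⟩ <;>
      apply invol <;> simp [a, b, c, map_inv₀]
  · rcases sign_eq hy hz hx (by rw [← hxyz]; ring) hprod hA hB hC with ⟨a, b, c⟩ | ⟨a, b, c⟩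
    · refine cplus ?_ ?_ <;> simp only [a, b, c] <;> rw [← hxyz] <;> ring
    · refine cminus ?_ ?_ <;> simp only [a, b, c, map_inv₀, inv_inv] <;> field_simp <;> linear_combination hxyz
  · rcases sign_eq hz hx hy (by rw [← hxyz]; ring) hprod hA hB hC with ⟨a, b, c⟩ | ⟨a, b, c⟩
    · refine cplus ?_ ?_ <;> simp only [a, b, c] <;> rw [← hxyz] <;> ring
    · refine cminus ?_ ?_ <;> simp only [a, b, c, map_inv₀, inv_inv] <;> field_simp <;> linear_combination hxyz
  · rcases sign_eq hz hy hx (by rw [← hxyz]; ring) hprod hA hB hC with ⟨a, b, c⟩ | ⟨a, b, c⟩ <;>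
      apply invol <;> simp [a, b, c, map_inv₀]

end Cfsg.Agent.G2Spec
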