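/-
A cyclic element of G₂ with prescribed invariants.
-/
import Cfsg.Agent.Lib.G2Spec.Shape

set_option autoImplicit false
set_option linter.unusedSectionVars false
set_option linter.unusedSimpArgs false
set_option maxHeartbeats 4000000

namespace Cfsg.Agent.G2Spec

open Polynomial
open scoped Matrix

variable {F : Type*} [Field F] [CharP F 2]

/-- The section element. -/
def secM (p r : F) : Matrix (Fin 6) (Fin 6) F :=
  !![p, r, 1, 0, 0, 0; 1, 0, 0, 0, 0, 0; 0, p ^ 2, 0, r, 1, 0; 0, 1, 0, 0, 0, 0; 0, 0, 0, p, 0, 1; 0, 0, 0, 1, 0, 0]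

/-- Its Krylov matrix at the first basis vector. -/
def kry (p r : F) : Matrix (Fin 6) (Fin 6) F :=
  !![1, p, r + p ^ 2, p ^ 2 + p ^ 3, r + r ^ 2 + p ^ 2 * r + p ^ 4, p + p * r ^ 2 + p ^ 4 + p ^ 5; 0, 1, p, r + p ^ 2, p ^ 2 + p ^ 3, r + r ^ 2 + p ^ 2 * r + p ^ 4; 0, 0, p ^ 2, r + p ^ 3, p + p * r + p ^ 2 * r + p ^ 4, 1 + p ^ 2 + r ^ 2 + p ^ 2 * r + p ^ 4 + p ^ 5; 0, 0, 1, p, r + p ^ 2, p ^ 2 + p ^ 3; 0, 0, 0, p, 1 + p ^ 2, p + p * r + p ^ 3; 0, 0, 0, 1, p, r + p ^ 2]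

/-- The inverse of the Krylov matrix. -/
def kryInv (p r : F) : Matrix (Fin 6) (Fin 6) F :=
  !![1, p, p, r + p ^ 3, r + p ^ 2, p ^ 2 + p ^ 3; 0, 1, r, p + p ^ 2 * r, p ^ 2 + p * r, r + r ^ 2 + p ^ 3 + p ^ 2 * r; 0, 0, p ^ 2, 1 + p ^ 4, r + p ^ 3, p + p * r + p ^ 2 * r + p ^ 4; 0, 0, r, p ^ 2 * r, p + p * r, 1 + p ^ 2 + r ^ 2 + p ^ 2 * r; 0, 0, p, p ^ 3, 1 + p ^ 2, p + p * r + p ^ 3; 0, 0, 1, p ^ 2, p, r + p ^ 2]

/-- The next Krylov vector. -/
def kryLast (p r : F) : Fin 6 → F := ![1 + p ^ 2 * r + r ^ 3 + p ^ 4 + p ^ 4 * r + p ^ 6, p + p * r ^ 2 + p ^ 4 + p ^ 5, p + p * r + p ^ 3 + p ^ 3 * r + p ^ 2 * r ^ 2 + p ^ 4 * r + p ^ 6, r + r ^ 2 + p ^ 2 * r + p ^ 4, r + p ^ 2 + p ^ 3 + p ^ 4, p ^ 2 + p ^ 3]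

/-- The polynomial of the section element. -/
noncomputable def secP (p r : F) : F[X] :=
  X ^ 6 + C p * X ^ 5 + C r * X ^ 4 + C (p ^ 2) * X ^ 3 + C r * X ^ 2 + C p * X + 1

theorem sec_eq (R : Rep6 F) (p r : F) : ∃ g : ↥(Cfsg.Lie.chevG2.group F), R.M g = secM p r := by
  obtain ⟨na, -, hna⟩ := M_simple R 0
  obtain ⟨nb, -, hnb⟩ := M_simple R 1
  refine ⟨xe 7 p * na * xe 6 r * nb, ?_⟩
  have hna' : R.M na = Pm [1, 0, 3, 2, 5, 4] := by simpa using hna
  have hnb' : R.M nb = Pm [0, 2, 1, 4, 3, 5] := by simpa using hnb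
  have ea : Yn 7 p * Pm [1, 0, 3, 2, 5, 4] = !![p, 1, 0, 0, 0, 0; 1, 0, 0, 0, 0, 0; 0, 0, p ^ 2, 1, 0, 0;
      0, 0, 1, 0, 0, 0; 0, 0, 0, 0, p, 1; 0, 0, 0, 0, 1, 0] := by
    ext i j
    fin_cases i <;> fin_cases j <;> simp [Yn, Pm, Matrix.mul_apply, Fin.sum_univ_six]
  have eb : Yn 6 r * Pm [0, 2, 1, 4, 3, 5] = !![1, 0, 0, 0, 0, 0; 0, r, 1, 0, 0, 0; 0, 1, 0, 0, 0, 0;
      0, 0, 0, r, 1, 0; 0, 0, 0, 1, 0, 0; 0, 0, 0, 0, 0, 1] := by
    ext i j
    fin_cases i <;> fin_cases j <;> simp [Yn, Pm, Matrix.mul_apply, Fin.sum_univ_six]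
  rw [map_mul, map_mul, map_mul, M_xe R (by omega), M_xe R (by omega), hna', hnb', mul_assoc, eb, ea]
  ext i j
  fin_cases i <;> fin_cases j <;> simp [secM, Matrix.mul_apply, Fin.sum_univ_six]

theorem kry_step (p r : F) (j : Fin 5) :
    secM p r *ᵥ (fun i => kry p r i j.castSucc) = fun i => kry p r i j.succ := by
  have h2 : (2 : F) = 0 := CharTwo.two_eq_zero
  funext i
  fin_cases j <;> fin_cases i <;> simp [secM, kry, Matrix.mulVec, dotProduct, Fin.sum_univ_six] <;> grind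

theorem kry_last (p r : F) : secM p r *ᵥ (fun i => kry p r i 5) = kryLast p r := by
  have h2 : (2 : F) = 0 := CharTwo.two_eq_zero
  funext i
  fin_cases i <;> simp [secM, kry, kryLast, Matrix.mulVec, dotProduct, Fin.sum_univ_six] <;> grind

theorem kry_inv (p r : F) : kry p r * kryInv p r = 1 := by
  have h2 : (2 : F) = 0 := CharTwo.two_eq_zero
  ext i j
  fin_cases i <;> fin_cases j <;> simp [kry, kryInv, Matrix.mul_apply, Fin.sum_univ_six] <;> grind

theorem kry_rel (p r : F) : kryLast p r + p • (fun i => kry p r i 5) + r • (fun i => kry p r i 4) +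
    p ^ 2 • (fun i => kry p r i 3) + r • (fun i => kry p r i 2) + p • (fun i => kry p r i 1) +
    (fun i => kry p r i 0) = 0 := by
  have h2 : (2 : F) = 0 := CharTwo.two_eq_zero
  funext i
  simp only [Pi.add_apply, Pi.smul_apply, smul_eq_mul]
  fin_cases i <;> simp [kry, kryLast] <;> grind

theorem kry_pow (p r : F) (j : Fin 6) : secM p r ^ j.val *ᵥ Pi.single 0 1 = fun i => kry p r i j := by
  have h0 : (fun i => kry p r i 0) = Pi.single 0 1 := by
    funext i
    fin_cases i <;> simp [kry]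
  obtain ⟨n, hn⟩ := j
  induction n with
  | zero => rw [pow_zero, Matrix.one_mulVec]; exact h0.symm
  | succ n ih =>
    rw [pow_succ', ← Matrix.mulVec_mulVec, ih (by omega)]
    exact kry_step p r ⟨n, by omega⟩

theorem aeval_secP (p r : F) : aeval (secM p r) (secP p r) = 0 := by
  set M := secM p r
  have e0 : aeval M (secP p r) *ᵥ Pi.single 0 1 = 0 := by
    have h6 : M ^ 6 *ᵥ Pi.single 0 1 = kryLast p r := by
      rw [pow_succ', ← Matrix.mulVec_mulVec]
      exact (congrArg (M *ᵥ ·) (kry_pow p r 5)).trans (kry_last p r)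
    have h1 : M *ᵥ Pi.single 0 1 = fun i => kry p r i 1 := by
      have := kry_pow p r 1
      rwa [Fin.val_one, pow_one] at this
    have h0 : (Pi.single 0 1 : Fin 6 → F) = fun i => kry p r i 0 := by
      have := kry_pow p r 0
      rwa [Fin.val_zero, pow_zero, Matrix.one_mulVec] at this
    have h5 : M ^ 5 *ᵥ Pi.single 0 1 = fun i => kry p r i 5 := kry_pow p r 5
    have h4 : M ^ 4 *ᵥ Pi.single 0 1 = fun i => kry p r i 4 := kry_pow p r 4
    have h3 : M ^ 3 *ᵥ Pi.single 0 1 = fun i => kry p r i 3 := kry_pow p r 3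
    have h2' : M ^ 2 *ᵥ Pi.single 0 1 = fun i => kry p r i 2 := kry_pow p r 2
    simp only [secP, map_add, map_mul, aeval_X, aeval_C, map_pow, map_one, Algebra.algebraMap_eq_smul_one,
      smul_mul_assoc, one_mul, _root_.smul_pow, one_pow, Matrix.add_mulVec, Matrix.smul_mulVec,
      Matrix.one_mulVec]
    rw [h6, h5, h4, h3, h2', h1, h0]
    exact kry_rel p r
  have eK : aeval M (secP p r) * kry p r = 0 := by
    ext i j
    have : aeval M (secP p r) *ᵥ (fun i => kry p r i j) = 0 := by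
      rw [← kry_pow, Matrix.mulVec_mulVec, (Commute.pow_right (show Commute (aeval M (secP p r)) M by
        have := (Commute.all (secP p r) X).map (aeval M)
        rwa [aeval_X] at this) j.val).eq, ← Matrix.mulVec_mulVec, e0, Matrix.mulVec_zero]
    exact congrFun this i
  rw [← mul_one (aeval M (secP p r)), ← kry_inv p r, ← mul_assoc, eK, zero_mul]

theorem secP_monic (p r : F) : (secP p r).Monic ∧ (secP p r).natDegree = 6 := by
  refine ⟨?_, ?_⟩ <;> unfold secP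
  · monicity!
  · compute_degree!

theorem sec_pow_eq_one (p r : F) (N : ℕ) : secM p r ^ N = 1 ↔ secP p r ∣ X ^ N - 1 := by
  constructor
  · intro h
    obtain ⟨hm, hd⟩ := secP_monic p r
    set Q := (X ^ N - 1 : F[X]) %ₘ secP p r with hQ
    have hQ0 : aeval (secM p r) Q = 0 := by
      have := congrArg (aeval (secM p r)) (modByMonic_add_div (X ^ N - 1 : F[X]) (secP p r))
      rw [map_add, map_mul, aeval_secP, zero_mul, add_zero] at this
      rw [hQ, this]
      simp [h]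
    have hdeg : Q.natDegree < 6 := by
      rw [hQ, ← hd]
      exact natDegree_modByMonic_lt _ hm (fun e => by rw [e, natDegree_one] at hd; omega)
    rw [← modByMonic_eq_zero_iff_dvd hm, ← hQ]
    have hc : kry p r *ᵥ (fun j : Fin 6 => Q.coeff j) = 0 := by
      have := congrArg (fun A : Matrix (Fin 6) (Fin 6) F => A *ᵥ Pi.single 0 1) hQ0
      simp only [Matrix.zero_mulVec] at this
      rw [aeval_eq_sum_range' hdeg, Matrix.sum_mulVec, Finset.sum_range] at this
      simp only [Matrix.smul_mulVec, kry_pow] at this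
      rw [← this]
      funext i
      simp [Matrix.mulVec, dotProduct, Finset.sum_apply, mul_comm]
    have hz : (fun j : Fin 6 => Q.coeff j) = 0 := by
      rw [← Matrix.one_mulVec (fun j : Fin 6 => Q.coeff j), ← mul_eq_one_comm.1 (kry_inv p r),
        ← Matrix.mulVec_mulVec, hc, Matrix.mulVec_zero]
    ext n
    by_cases hn : n < 6
    · exact congrFun hz ⟨n, hn⟩
    · exact coeff_eq_zero_of_natDegree_lt (by omega)
  · rintro ⟨c, hc⟩
    have := congrArg (aeval (secM p r)) hc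
    rw [map_mul, aeval_secP, zero_mul] at this
    simp at this
    exact sub_eq_zero.1 this

end Cfsg.Agent.G2Spec
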