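/-
The spectrum of G₂(q), q even.
-/
import Cfsg.Agent.Lib.G2Spec.Orders
import Cfsg.Agent.Lib.G2Spec.Section

set_option autoImplicit false
set_option linter.unusedSectionVars false
set_option linter.unusedSimpArgs false
set_option maxHeartbeats 1000000

namespace Cfsg.Agent.G2Spec

open Polynomial
open scoped Matrix

variable {F : Type*} [Field F] [CharP F 2] {K : Type*} [Field K] [CharP K 2]

theorem exists_Rep6 (F : Type*) [Field F] [CharP F 2] : ∃ R : Rep6 F, Function.Injective R.π := by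
  obtain ⟨π, h1, h2⟩ := exists_rep F
  exact ⟨⟨π, h2⟩, h1⟩

theorem Yn_map (f : F →+* K) (r : ℕ) (t : F) : (Yn r t).map f = Yn r (f t) := by
  unfold Yn
  split
  all_goals
    ext i j
    fin_cases i <;> fin_cases j <;> simp

theorem lift_elem (f : F →+* K) (RF : Rep6 F) (RK : Rep6 K) (g : ↥(Cfsg.Lie.chevG2.group F)) :
    ∃ g' : ↥(Cfsg.Lie.chevG2.group K), RK.M g' = (RF.M g).map f := by
  obtain ⟨g, hg⟩ := g
  have key : ∀ x : GL Cfsg.Lie.chevG2.Idx F, x ∈ Subgroup.closure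
      {y : GL Cfsg.Lie.chevG2.Idx F | ∃ r, r < 12 ∧ ∃ t : F, y = Cfsg.Agent.Chev.G2.ok.xG r t} →
      ∀ hx : x ∈ Cfsg.Lie.chevG2.group F, ∃ g' : ↥(Cfsg.Lie.chevG2.group K), RK.M g' = (RF.M ⟨x, hx⟩).map f := by
    intro x hx
    induction hx using Subgroup.closure_induction'' with
    | mem y hy =>
      intro hy'
      obtain ⟨r, hr, t, rfl⟩ := hy
      exact ⟨xe r (f t), by rw [M_xe RK hr, show RF.M ⟨_, hy'⟩ = Yn r t from M_xe RF hr t, Yn_map]⟩
    | inv_mem y hy =>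
      intro hy'
      obtain ⟨r, hr, t, rfl⟩ := hy
      have e : (⟨_, hy'⟩ : ↥(Cfsg.Lie.chevG2.group F)) = xe r t := Subtype.ext (by
        show (Cfsg.Agent.Chev.G2.ok.xG r t)⁻¹ = _
        rw [Cfsg.Agent.Chev.G2.ok.xG_inv, CharTwo.neg_eq]
        rfl)
      exact ⟨xe r (f t), by rw [M_xe RK hr, e, M_xe RF hr, Yn_map]⟩
    | one =>
      intro h1
      refine ⟨1, ?_⟩
      rw [show (⟨1, h1⟩ : ↥(Cfsg.Lie.chevG2.group F)) = 1 from rfl, map_one, map_one]
      exact (Matrix.map_one f (map_zero f) (map_one f)).symm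
    | mul a b ha hb iha ihb =>
      intro hab
      have hle : Subgroup.closure {y : GL Cfsg.Lie.chevG2.Idx F | ∃ r, r < 12 ∧ ∃ t : F,
          y = Cfsg.Agent.Chev.G2.ok.xG r t} ≤ Cfsg.Lie.chevG2.group F :=
        (Subgroup.closure_le _).2 (by rintro y ⟨r, -, t, rfl⟩; exact Cfsg.Agent.Chev.G2.ok.mem_group_of_xG r t)
      obtain ⟨a', ea⟩ := iha (hle ha)
      obtain ⟨b', eb⟩ := ihb (hle hb)
      refine ⟨a' * b', ?_⟩
      rw [map_mul, ea, eb, show (⟨a * b, hab⟩ : ↥(Cfsg.Lie.chevG2.group F)) = ⟨a, hle ha⟩ * ⟨b, hle hb⟩ from rfl,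
        map_mul, Matrix.map_mul]
  refine key g ?_ hg
  refine (show Cfsg.Lie.chevG2.group F ≤ _ from ?_) hg
  rw [Cfsg.Lie.ChevalleyDatum.group, Subgroup.closure_le]
  rintro y ⟨r, t, hy⟩
  refine Subgroup.subset_closure ⟨r.val, r.isLt, t, Units.ext ?_⟩
  rw [Cfsg.Agent.Chev.G2.ok.coe_xG, hy, Cfsg.Lie.ChevalleyDatum.x, dif_pos r.isLt]

theorem exists_chi [IsAlgClosed K] (R : Rep6 K) (g : ↥(Cfsg.Lie.chevG2.group K)) :
    ∃ x y z : K, x * y * z = 1 ∧ (R.M g).charpoly = chi x y z := by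
  obtain ⟨C, hC⟩ := exists_good R g
  obtain ⟨x, y, z, hxyz, hchi⟩ := chi_charpoly hC
  have hCC' : R.M C⁻¹ * R.M C = 1 := by rw [← map_mul, inv_mul_cancel, map_one]
  refine ⟨x, y, z, hxyz, ?_⟩
  rw [← hchi, map_mul, map_mul, Matrix.charpoly_mul_comm, ← mul_assoc, hCC', one_mul]

theorem charpoly_fixed [Fintype F] (f : F →+* K) (φ : K →+* K) (hφ : ∀ t, φ t = t ^ Fintype.card F)
    (A : Matrix (Fin 6) (Fin 6) F) : (A.map f).charpoly.map φ = (A.map f).charpoly := by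
  rw [Matrix.charpoly_map, Polynomial.map_map]
  congr 1
  ext t
  rw [RingHom.comp_apply, hφ, ← map_pow, FiniteField.pow_card]

theorem pow_eq_one_of_map {R : Rep6 F} (hinj : Function.Injective R.π) (f : F →+* K)
    (g : ↥(Cfsg.Lie.chevG2.group F)) {p : K[X]} (hp : ((R.M g).map f).charpoly = p) {N : ℕ}
    (hd : p ∣ X ^ N - 1) : g ^ N = 1 := by
  obtain ⟨c, hc⟩ := hd
  have h1 : (R.M g).map f ^ N = 1 := by
    have := congrArg (aeval ((R.M g).map f)) hc
    rw [map_mul, ← hp, Matrix.aeval_self_charpoly, zero_mul] at this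
    simp at this
    exact sub_eq_zero.1 this
  refine hinj (Units.ext ?_)
  show R.M (g ^ N) = R.M 1
  rw [map_one, map_pow]
  refine Matrix.map_injective f.injective ?_
  show f.mapMatrix (R.M g ^ N) = f.mapMatrix 1
  rw [map_pow, map_one]
  exact h1

theorem upper [Fintype F] (a : ℕ) (ha : 2 ≤ a) (hF : Fintype.card F = 2 ^ a) (g : ↥(Cfsg.Lie.chevG2.group F)) :
    ∃ N, Bound (2 ^ a) N ∧ orderOf g ∣ N := by
  classical
  haveI : Fact (Nat.Prime 2) := ⟨Nat.prime_two⟩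
  haveI : CharP (AlgebraicClosure F) 2 := charP_of_injective_algebraMap (algebraMap F (AlgebraicClosure F)).injective 2
  obtain ⟨RF, hinj⟩ := exists_Rep6 F
  obtain ⟨RL, -⟩ := exists_Rep6 (AlgebraicClosure F)
  obtain ⟨g', hg'⟩ := lift_elem (algebraMap F (AlgebraicClosure F)) RF RL g
  obtain ⟨x, y, z, hxyz, hcp⟩ := exists_chi RL g'
  rw [hg'] at hcp
  have hφ : ∀ t : AlgebraicClosure F, iterateFrobenius (AlgebraicClosure F) 2 a t = t ^ 2 ^ a :=
    fun t => iterateFrobenius_def (R := AlgebraicClosure F) 2 a t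
  have hfix := charpoly_fixed (algebraMap F (AlgebraicClosure F)) _ (by rw [hF]; exact hφ) (RF.M g)
  rw [hcp] at hfix
  have hq : 4 ≤ 2 ^ a := by
    calc 4 = 2 ^ 2 := by norm_num
      _ ≤ 2 ^ a := Nat.pow_le_pow_right (by norm_num) ha
  obtain ⟨N, hN, hd⟩ := bound_chi hq _ hφ hxyz hfix
  exact ⟨N, hN, orderOf_dvd_of_pow_eq_one (pow_eq_one_of_map hinj _ g hcp hd)⟩

theorem chi_secP {x y z : K} (h : x * y * z = 1) :
    chi x y z = secP (x + x⁻¹ + (y + y⁻¹) + (z + z⁻¹))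
      ((x + x⁻¹) * (y + y⁻¹) + (x + x⁻¹) * (z + z⁻¹) + (y + y⁻¹) * (z + z⁻¹) + 1) := by
  have hx : x ≠ 0 := left_ne_zero_of_mul (left_ne_zero_of_mul_eq_one h)
  have hy : y ≠ 0 := right_ne_zero_of_mul (left_ne_zero_of_mul_eq_one h)
  have hz : z ≠ 0 := right_ne_zero_of_mul_eq_one h
  have h2 : (2 : K) = 0 := CharTwo.two_eq_zero
  have quad : ∀ t : K, t ≠ 0 → (X - C t) * (X - C t⁻¹) = X ^ 2 + C (t + t⁻¹) * X + 1 := by
    intro t ht
    have e : (X - C t) * (X - C t⁻¹) = X ^ 2 - (C t + C t⁻¹) * X + C t * C t⁻¹ := by ring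
    rw [e, ← C_mul, mul_inv_cancel₀ ht, C_1, CharTwo.sub_eq_add, C_add]
  have hz' : z = x⁻¹ * y⁻¹ := by field_simp; linear_combination h
  have e3 : (x + x⁻¹) * (y + y⁻¹) * (z + z⁻¹) = (x + x⁻¹ + (y + y⁻¹) + (z + z⁻¹)) ^ 2 := by
    subst hz'
    field_simp
    grind
  rw [chi_eq, quad x hx, quad y hy, quad z hz, secP, ← e3]
  simp only [C_add, C_mul, C_1]
  have h2' : (2 : K[X]) = 0 := CharTwo.two_eq_zero
  grind

theorem mem_range_of_fixed [Fintype F] (f : F →+* K) {t : K} (h : t ^ Fintype.card F = t) : ∃ s, f s = t := by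
  classical
  by_contra hne
  push Not at hne
  have hcard : 1 < Fintype.card F := Fintype.one_lt_card
  have hnz : (X ^ Fintype.card F - X : K[X]) ≠ 0 := FiniteField.X_pow_card_sub_X_ne_zero K hcard
  have hsub : insert t (Finset.univ.image f) ⊆ (X ^ Fintype.card F - X : K[X]).roots.toFinset := by
    intro u hu
    rw [Multiset.mem_toFinset, mem_roots hnz]
    simp only [IsRoot.def, eval_sub, eval_pow, eval_X, sub_eq_zero]
    rcases Finset.mem_insert.1 hu with rfl | hu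
    · exact h
    · obtain ⟨s, -, rfl⟩ := Finset.mem_image.1 hu
      rw [← map_pow, FiniteField.pow_card]
  have h1 := (Finset.card_le_card hsub).trans ((Multiset.toFinset_card_le _).trans (card_roots' _))
  rw [Finset.card_insert_of_notMem (by simp [hne]), Finset.card_image_of_injective _ f.injective,
    Finset.card_univ, FiniteField.X_pow_card_sub_X_natDegree_eq K hcard] at h1
  omega

/-- An element with prescribed eigenvalues. -/
theorem realize [Fintype F] (a : ℕ) (hF : Fintype.card F = 2 ^ a) (f : F →+* K) (φ : K →+* K)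
    (hφ : ∀ t, φ t = t ^ 2 ^ a) {x y z : K} (h : x * y * z = 1)
    (hfix : chi (φ x) (φ y) (φ z) = chi x y z) :
    ∃ g : ↥(Cfsg.Lie.chevG2.group F), ∀ N, g ^ N = 1 ↔ chi x y z ∣ X ^ N - 1 := by
  obtain ⟨R, hinj⟩ := exists_Rep6 F
  have hφ' : φ (x) * φ y * φ z = 1 := by rw [← map_mul, ← map_mul, h, map_one]
  set P := x + x⁻¹ + (y + y⁻¹) + (z + z⁻¹) with hP
  set Q := (x + x⁻¹) * (y + y⁻¹) + (x + x⁻¹) * (z + z⁻¹) + (y + y⁻¹) * (z + z⁻¹) + 1 with hQ
  have e := hfix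
  rw [chi_secP h, chi_secP hφ', ← hP, ← hQ] at e
  have hc5 : ∀ u v : K, (secP u v).coeff 5 = u ∧ (secP u v).coeff 4 = v := fun u v => by
    constructor <;> simp [secP, coeff_X_pow, coeff_one, coeff_X, coeff_C_mul, -map_pow]
  have e5 := congrArg (fun q : K[X] => q.coeff 5) e
  have e4 := congrArg (fun q : K[X] => q.coeff 4) e
  simp only [hc5, ← map_inv₀, ← map_add] at e5
  simp only [hc5, ← map_inv₀, ← map_add, ← map_mul] at e4
  rw [← hP] at e5
  rw [← map_one φ, ← map_add, ← hQ] at e4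
  obtain ⟨p, hp⟩ := mem_range_of_fixed f (t := P) (by rw [hF, ← hφ]; exact e5)
  obtain ⟨r, hr⟩ := mem_range_of_fixed f (t := Q) (by rw [hF, ← hφ]; exact e4)
  obtain ⟨g, hg⟩ := sec_eq R p r
  refine ⟨g, fun N => ?_⟩
  have hmap : (secP p r).map f = chi x y z := by
    rw [chi_secP h, ← hP, ← hQ, ← hp, ← hr]
    simp [secP, Polynomial.map_add, Polynomial.map_mul]
  rw [← hmap, show (X ^ N - 1 : K[X]) = (X ^ N - 1 : F[X]).map f by simp, Polynomial.map_dvd_map' f,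
    ← sec_pow_eq_one, ← hg, ← map_pow]
  refine ⟨fun e => by rw [e, map_one], fun e => hinj (Units.ext ?_)⟩
  rw [map_one, Units.val_one]
  exact e

end Cfsg.Agent.G2Spec
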