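/-
Witnesses for the maximal element orders of G₂(q), q even.
-/
import Cfsg.Agent.Lib.G2Spec.Spectrum

set_option autoImplicit false
set_option linter.unusedSectionVars false
set_option linter.unusedSimpArgs false
set_option maxHeartbeats 1000000

namespace Cfsg.Agent.G2Spec

open Polynomial

variable {K : Type*} [Field K]

theorem root_of_dvd {x y z : K} {N : ℕ} (h : chi x y z ∣ X ^ N - 1) : x ^ N = 1 ∧ y ^ N = 1 := by
  have key : ∀ t : K, (X - C t) ∣ chi x y z → t ^ N = 1 := by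
    intro t ht
    simpa [dvd_iff_isRoot, sub_eq_zero] using ht.trans h
  constructor <;> refine key _ (Multiset.dvd_prod (Multiset.mem_map_of_mem _ ?_)) <;> simp [six]

theorem not_sq_dvd {n : ℕ} (hn : (n : K) ≠ 0) (x : K) : ¬ (X - C x) ^ 2 ∣ X ^ n - 1 := by
  rintro ⟨c, hc⟩
  have h1 := congrArg (fun P : K[X] => P.eval x) hc
  have h2 := congrArg (fun P : K[X] => (derivative P).eval x) hc
  simp [derivative_pow, derivative_mul, sub_eq_zero] at h1
  simp [derivative_pow, derivative_mul, hn] at h2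
  have n0 : n ≠ 0 := fun e => hn (by rw [e, Nat.cast_zero])
  have x0 : x ≠ 0 := fun e => by rw [e, zero_pow n0] at h1; exact zero_ne_one h1
  exact x0 h2.1

theorem odd_cast_ne [CharP K 2] {n : ℕ} (hn : Odd n) : (n : K) ≠ 0 := by
  rw [Ne, CharP.cast_eq_zero_iff K 2]
  rintro ⟨c, hc⟩
  obtain ⟨d, hd⟩ := hn
  omega

theorem exists_prim [IsAlgClosed K] [CharP K 2] {n : ℕ} (hn : Odd n) : ∃ x : K, IsPrimitiveRoot x n := by
  haveI : NeZero (n : K) := ⟨odd_cast_ne hn⟩
  haveI : NeZero n := NeZero.of_neZero_natCast K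
  exact HasEnoughRootsOfUnity.exists_primitiveRoot K n

variable {F : Type*} [Field F] [Fintype F] [CharP F 2] [IsAlgClosed K] [CharP K 2]

/-- The standing data. -/
structure Setup (F K : Type*) [Field F] [Fintype F] [Field K] where
  a : ℕ
  ha : 2 ≤ a
  hF : Fintype.card F = 2 ^ a
  f : F →+* K
  φ : K →+* K
  hφ : ∀ t, φ t = t ^ 2 ^ a

variable (S : Setup F K)

/-- The order of the field. -/
def Setup.q : ℕ := 2 ^ S.a

theorem q_ge : 4 ≤ S.q := by
  calc 4 = 2 ^ 2 := by norm_num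
    _ ≤ S.q := Nat.pow_le_pow_right (by norm_num) S.ha

theorem q_even : Even S.q := Nat.even_pow.2 ⟨even_two, by have := S.ha; omega⟩

include S

theorem occurs_eight : ∃ g : ↥(Cfsg.Lie.chevG2.group F), orderOf g = 8 := by
  obtain ⟨g, hg⟩ := realize S.a S.hF S.f S.φ S.hφ (x := 1) (y := 1) (z := 1) (by simp) (by simp)
  have e : chi (1 : K) 1 1 = (X - 1) ^ 6 := by rw [chi_eq, inv_one, map_one]; ring
  haveI : Fact (Nat.Prime 2) := ⟨Nat.prime_two⟩
  refine ⟨g, orderOf_eq_prime_pow (p := 2) (n := 2) ?_ ?_⟩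
  · rw [hg, e, show (2 ^ 2 : ℕ) = 1 * 2 ^ 2 by norm_num, ← sub_one_sq, pow_one]
    intro h
    have hne : (X - 1 : K[X]) ≠ 0 := by simpa using X_sub_C_ne_zero (1 : K)
    have := natDegree_le_of_dvd h (pow_ne_zero _ hne)
    rw [natDegree_pow, natDegree_pow, show (X - 1 : K[X]).natDegree = 1 by simpa using natDegree_X_sub_C (1 : K)] at this
    norm_num at this
  · rw [hg, e, show (2 ^ (2 + 1) : ℕ) = 1 * 2 ^ 3 by norm_num, ← sub_one_sq, pow_one]
    exact pow_dvd_pow _ (by norm_num)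

theorem occurs_twelve : ∃ g : ↥(Cfsg.Lie.chevG2.group F), orderOf g = 12 := by
  obtain ⟨w, hw⟩ := exists_prim (K := K) (n := 3) (by decide)
  have hw0 : w ≠ 0 := hw.ne_zero (by norm_num)
  have hw1 : w ≠ 1 := hw.ne_one (by norm_num)
  have h3 : w ^ 3 = 1 := hw.pow_eq_one
  have hinv : chi w⁻¹ w⁻¹ w⁻¹ = chi w w w := by simp only [chi_eq, inv_inv]; ring
  have hprod : w * w * w = 1 := by rw [← h3]; ring
  have hfix : chi (S.φ w) (S.φ w) (S.φ w) = chi w w w := by
    have hmod : 2 ^ S.a % 3 = 1 ∨ 2 ^ S.a % 3 = 2 := by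
      have : 2 ^ S.a % 3 ≠ 0 := fun h =>
        absurd (Nat.prime_three.dvd_of_dvd_pow (Nat.dvd_of_mod_eq_zero h)) (by norm_num)
      omega
    rw [S.hφ, ← Nat.div_add_mod (2 ^ S.a) 3, pow_add, pow_mul, h3, one_pow, one_mul]
    rcases hmod with e | e <;> rw [e]
    · rw [pow_one]
    · rw [show w ^ 2 = w⁻¹ from eq_inv_of_mul_eq_one_left (by rw [← h3]; ring), hinv]
  obtain ⟨g, hg⟩ := realize S.a S.hF S.f S.φ S.hφ hprod hfix
  refine ⟨g, ?_⟩
  have e : chi w w w = ((X - C w) * (X - C w⁻¹)) ^ 3 := by rw [chi_eq]; ring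
  have h12 : g ^ 12 = 1 := by
    rw [hg, e, show (12 : ℕ) = 3 * 2 ^ 2 by norm_num, ← sub_one_sq]
    refine (pow_dvd_pow_of_dvd ?_ 3).trans (pow_dvd_pow _ (by norm_num))
    simpa using prod_dvd (n := 3) (by norm_num) ({w, w⁻¹} : Multiset K) (by simpa using ne_inv_self hw1 hw0)
      (by simp [h3])
  have h4 : ¬ g ^ 4 = 1 := by
    rw [hg]
    intro h
    exact hw1 (by simpa [pow_succ, hprod, mul_assoc] using (root_of_dvd h).1)
  have h6 : ¬ g ^ 6 = 1 := by
    rw [hg]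
    intro h
    obtain ⟨R, hR⟩ : (X - C w) ∣ (X ^ 3 - 1 : K[X]) := dvd_iff_isRoot.2 (by simp [h3])
    have d : (X - C w) ^ 3 ∣ chi w w w := by rw [e, mul_pow]; exact dvd_mul_right _ _
    have h' : (X - C w) ^ 2 * (X - C w) ∣ (X - C w) ^ 2 * R ^ 2 := by
      rw [← pow_succ, ← mul_pow, ← hR, show (2 : ℕ) = 2 ^ 1 by norm_num, sub_one_sq]
      exact d.trans h
    rw [mul_dvd_mul_iff_left (pow_ne_zero _ (X_sub_C_ne_zero w))] at h'
    refine not_sq_dvd (K := K) (n := 3) (odd_cast_ne (by decide)) w ?_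
    rw [hR, pow_two]
    exact mul_dvd_mul_left _ ((prime_X_sub_C w).dvd_of_dvd_pow h')
  have hd := orderOf_dvd_of_pow_eq_one h12
  have hle := Nat.le_of_dvd (by norm_num) hd
  have k4 : ¬ orderOf g ∣ 4 := fun h => h4 (orderOf_dvd_iff_pow_eq_one.1 h)
  have k6 : ¬ orderOf g ∣ 6 := fun h => h6 (orderOf_dvd_iff_pow_eq_one.1 h)
  interval_cases orderOf g <;> simp_all

theorem occurs_double {n : ℕ} (hn : Odd n) (h3 : 3 ≤ n)
    (hq : ∀ x : K, x ^ n = 1 → x ^ 2 ^ S.a = x ∨ x ^ 2 ^ S.a = x⁻¹) :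
    ∃ g : ↥(Cfsg.Lie.chevG2.group F), orderOf g = 2 * n := by
  obtain ⟨x, hx⟩ := exists_prim (K := K) hn
  have hx0 : x ≠ 0 := hx.ne_zero (by omega)
  have hx1 : x ≠ 1 := hx.ne_one (by omega)
  have e : chi 1 x x⁻¹ = ((X - C (1 : K)) * (X - C x) * (X - C x⁻¹)) ^ 2 := by
    rw [chi_eq, inv_one, inv_inv]; ring
  have hfix : chi (S.φ 1) (S.φ x) (S.φ x⁻¹) = chi 1 x x⁻¹ := by
    rw [map_one, map_inv₀, S.hφ]
    rcases hq x hx.pow_eq_one with h | h <;> rw [h]
    simp only [chi_eq, inv_one, inv_inv]; ring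
  obtain ⟨g, hg⟩ := realize S.a S.hF S.f S.φ S.hφ (by rw [one_mul, mul_inv_cancel₀ hx0]) hfix
  refine ⟨g, ?_⟩
  have h2n : g ^ (2 * n) = 1 := by
    rw [hg, e, Nat.mul_comm, show (2 : ℕ) = 2 ^ 1 by norm_num, ← sub_one_sq]
    refine pow_dvd_pow_of_dvd ?_ _
    have := prod_dvd (n := n) (by omega) ({1, x, x⁻¹} : Multiset K) (by
      simp [ne_inv_self hx1 hx0, Ne.symm hx1, hx1, inv_eq_one, eq_comm (a := (1 : K))])
      (by simp [hx.pow_eq_one])
    simpa [mul_assoc] using this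
  have hdvd : n ∣ orderOf g :=
    hx.dvd_of_pow_eq_one _ (root_of_dvd ((hg _).1 (pow_orderOf_eq_one g))).2
  obtain ⟨k, hk⟩ := hdvd
  have hd := orderOf_dvd_of_pow_eq_one h2n
  rw [hk, mul_comm 2 n] at hd
  have hk2 : k ∣ 2 := Nat.dvd_of_mul_dvd_mul_left (by omega) hd
  rcases (Nat.dvd_prime Nat.prime_two).1 hk2 with h | h <;> subst h
  · exfalso
    have h1 := (hg n).1 (orderOf_dvd_iff_pow_eq_one.1 (by rw [hk, mul_one]))
    refine not_sq_dvd (K := K) (odd_cast_ne hn) 1 (dvd_trans ?_ h1)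
    rw [e, mul_pow, mul_pow, mul_assoc]
    exact dvd_mul_right _ _
  · rw [hk, mul_comm]

theorem occurs_single {n : ℕ} (hn : 0 < n) {x : K} (hx : IsPrimitiveRoot x n) {y z : K} (i j : ℕ)
    (hy : y = x ^ i) (hz : z = x ^ j) (hi : i < n) (hj : j < n)
    (hnd : [1, n - 1, i, n - i, j, n - j].Nodup) (hlt : ∀ e ∈ [1, n - 1, i, n - i, j, n - j], e < n)
    (hprod : x * y * z = 1) (hfix : chi (S.φ x) (S.φ y) (S.φ z) = chi x y z) :
    ∃ g : ↥(Cfsg.Lie.chevG2.group F), orderOf g = n := by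
  obtain ⟨g, hg⟩ := realize S.a S.hF S.f S.φ S.hφ hprod hfix
  have hinv : ∀ k, k ≤ n → (x ^ k)⁻¹ = x ^ (n - k) := fun k hk =>
    inv_eq_of_mul_eq_one_right (by rw [← pow_add, Nat.add_sub_cancel' hk, hx.pow_eq_one])
  have e : six x y z = (([1, n - 1, i, n - i, j, n - j].map fun k => x ^ k : List K) : Multiset K) := by
    simp only [six, List.map_cons, List.map_nil, hy, hz, ← hinv 1 (by omega), ← hinv i hi.le, ← hinv j hj.le, pow_one]
    rfl
  refine ⟨g, Nat.dvd_antisymm (orderOf_dvd_of_pow_eq_one ?_) ?_⟩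
  · rw [hg]
    refine prod_dvd hn _ ?_ ?_
    · rw [e, Multiset.coe_nodup]
      exact hnd.map_on fun p hp r hr h => hx.pow_inj (hlt p hp) (hlt r hr) h
    · intro t ht
      rw [e, Multiset.mem_coe, List.mem_map] at ht
      obtain ⟨k, -, rfl⟩ := ht
      rw [← pow_mul, mul_comm, pow_mul, hx.pow_eq_one, one_pow]
  · exact hx.dvd_of_pow_eq_one _ (root_of_dvd ((hg _).1 (pow_orderOf_eq_one g))).1

theorem occurs_plus : ∃ g : ↥(Cfsg.Lie.chevG2.group F), orderOf g = 2 * (S.q + 1) := by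
  refine occurs_double S (by have := q_even S; exact this.add_one) (by have := q_ge S; omega) fun x hx => Or.inr ?_
  exact eq_inv_of_mul_eq_one_left (by rw [← pow_succ]; exact hx)

theorem occurs_minus : ∃ g : ↥(Cfsg.Lie.chevG2.group F), orderOf g = 2 * (S.q - 1) := by
  have hq := q_ge S
  refine occurs_double S (Nat.Even.sub_odd (by omega) (q_even S) odd_one) (by omega) fun x hx => Or.inl ?_
  show x ^ S.q = x
  conv_lhs => rw [← Nat.sub_add_cancel (show 1 ≤ S.q by omega)]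
  rw [pow_succ, hx, one_mul]

theorem occurs_sq : ∃ g : ↥(Cfsg.Lie.chevG2.group F), orderOf g = S.q * S.q - 1 := by
  have hq := q_ge S
  have h4 : 4 * S.q ≤ S.q * S.q := Nat.mul_le_mul_right _ hq
  obtain ⟨x, hx⟩ := exists_prim (K := K) (n := S.q * S.q - 1)
    (Nat.Even.sub_odd (by omega) ((q_even S).mul_right _) odd_one)
  have hx0 : x ≠ 0 := hx.ne_zero (by omega)
  have hqq : x ^ (S.q * S.q) = x := by
    conv_lhs => rw [← Nat.sub_add_cancel (show 1 ≤ S.q * S.q by omega)]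
    rw [pow_succ, hx.pow_eq_one, one_mul]
  have ez : (x ^ (S.q + 1))⁻¹ = x ^ (S.q * S.q - 1 - (S.q + 1)) :=
    inv_eq_of_mul_eq_one_right (by rw [← pow_add, Nat.add_sub_cancel' (by omega), hx.pow_eq_one])
  have hφq : ∀ t, S.φ t = t ^ S.q := S.hφ
  refine occurs_single S (by omega) hx (y := x ^ S.q) (z := (x ^ (S.q + 1))⁻¹) S.q _ rfl ez (by omega) (by omega)
    ?_ ?_ ?_ ?_
  · simp only [List.nodup_cons, List.mem_cons, List.not_mem_nil, List.nodup_nil, not_false_iff, or_false, and_true,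
      not_or]
    omega
  · simp only [List.mem_cons, List.not_mem_nil, or_false]
    omega
  · rw [pow_succ]; field_simp
  · rw [hφq, hφq, hφq, ← pow_mul, hqq, inv_pow, ← pow_mul, add_mul, one_mul, pow_add, hqq,
      show x * x ^ S.q = x ^ (S.q + 1) by rw [pow_succ, mul_comm]]
    exact (chi_perm _ _ _).1.symm

theorem occurs_cubic_plus : ∃ g : ↥(Cfsg.Lie.chevG2.group F), orderOf g = S.q * S.q + S.q + 1 := by
  have hq := q_ge S
  have h4 : 4 * S.q ≤ S.q * S.q := Nat.mul_le_mul_right _ hq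
  obtain ⟨x, hx⟩ := exists_prim (K := K) (n := S.q * S.q + S.q + 1)
    (((q_even S).mul_right _).add (q_even S)).add_one
  have hx0 : x ≠ 0 := hx.ne_zero (by omega)
  have h1 : x ^ (S.q * S.q) * x ^ S.q * x = 1 := by rw [← pow_add, ← pow_succ, hx.pow_eq_one]
  have hφq : ∀ t, S.φ t = t ^ S.q := S.hφ
  refine occurs_single S (by omega) hx (y := x ^ S.q) (z := x ^ (S.q * S.q)) S.q (S.q * S.q) rfl rfl (by omega)
    (by omega) ?_ ?_ ?_ ?_
  · simp only [List.nodup_cons, List.mem_cons, List.not_mem_nil, List.nodup_nil, not_false_iff, or_false, and_true,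
      not_or]
    omega
  · simp only [List.mem_cons, List.not_mem_nil, or_false]
    omega
  · rw [← h1]; ring
  · have h2 : (x ^ (S.q * S.q)) ^ S.q = x := by
      have h' := congrArg (fun t : K => t ^ S.q) h1
      simp only [mul_pow, one_pow, ← pow_mul] at h'
      rw [← pow_mul]
      refine mul_right_cancel₀ (mul_ne_zero (pow_ne_zero (S.q * S.q) hx0) (pow_ne_zero S.q hx0)) ?_
      linear_combination h' - h1
    rw [hφq, hφq, hφq, ← pow_mul, h2]
    simp only [chi_eq]; ring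

theorem occurs_cubic_minus : ∃ g : ↥(Cfsg.Lie.chevG2.group F), orderOf g = S.q * S.q - S.q + 1 := by
  have hq := q_ge S
  have h4 : 4 * S.q ≤ S.q * S.q := Nat.mul_le_mul_right _ hq
  obtain ⟨x, hx⟩ := exists_prim (K := K) (n := S.q * S.q - S.q + 1)
    ((Nat.even_sub (Nat.le_mul_self S.q)).2 (iff_of_true ((q_even S).mul_right _) (q_even S))).add_one
  have hx0 : x ≠ 0 := hx.ne_zero (by omega)
  have h1 : x ^ (S.q * S.q) * x = x ^ S.q := by
    rw [← pow_succ, show S.q * S.q + 1 = (S.q * S.q - S.q + 1) + S.q by omega, pow_add, hx.pow_eq_one, one_mul]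
  have ey : (x ^ S.q)⁻¹ = x ^ (S.q * S.q - S.q + 1 - S.q) :=
    inv_eq_of_mul_eq_one_right (by rw [← pow_add, Nat.add_sub_cancel' (by omega), hx.pow_eq_one])
  have ez : x ^ (S.q * S.q) = x ^ (S.q - 1) := by
    refine mul_right_cancel₀ hx0 ?_
    rw [h1, ← pow_succ, Nat.sub_add_cancel (by omega)]
  have hφq : ∀ t, S.φ t = t ^ S.q := S.hφ
  refine occurs_single S (by omega) hx (y := (x ^ S.q)⁻¹) (z := x ^ (S.q * S.q)) _ _ ey ez (by omega) (by omega)
    ?_ ?_ ?_ ?_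
  · simp only [List.nodup_cons, List.mem_cons, List.not_mem_nil, List.nodup_nil, not_false_iff, or_false, and_true,
      not_or]
    omega
  · simp only [List.mem_cons, List.not_mem_nil, or_false]
    omega
  · field_simp; linear_combination h1
  · have h2 : (x ^ (S.q * S.q)) ^ S.q = x⁻¹ := by
      have h' := congrArg (fun t : K => t ^ S.q) h1
      simp only [mul_pow, ← pow_mul] at h'
      rw [← pow_mul]
      refine mul_right_cancel₀ (pow_ne_zero S.q hx0) ?_
      rw [h', ← h1]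
      field_simp
    rw [hφq, hφq, hφq, inv_pow, ← pow_mul, h2]
    simp only [chi_eq, inv_inv]; ring

end Cfsg.Agent.G2Spec
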